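import Cfsg.Agent.H10.Walter.Local

/-!
# Walter's theorem, rank three: the setting

The Sylow `2`-subgroup `S` is elementary of order `8`, `N(S)` is transitive on its involutions and
every involution centraliser is `⟨ā⟩ × L`, `L ≅ PSL₂(q)`, modulo its odd core, up to odd index.
-/

set_option autoImplicit false

namespace Cfsg.Agent.H77.Walter

open Subgroup Cfsg.Agent
open Cfsg.Agent.H10.Walter (Bar IsOddPSL)

universe u

variable {G : Type u} [Group G] [Finite G]

/-- The image of an element of `H` in `H / O(H)`. -/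
abbrev toBar (H : Subgroup G) (a : ↥H) : Bar H :=
  QuotientGroup.mk' (Cfsg.oddCore ↥H) a

/-- The residual configuration of rank three. -/
structure Three (S : Sylow 2 G) : Prop where
  cfg : H10.Walter.Cfg G
  noSE : H10.Walter.NoSE G
  card_eight : Nat.card ↥(S : Subgroup G) = 8
  sq : ∀ x ∈ (S : Subgroup G), x * x = 1
  trans : ∀ a ∈ (S : Subgroup G), ∀ b ∈ (S : Subgroup G), a ≠ 1 → b ≠ 1 →
    ∃ g ∈ normalizer ((S : Subgroup G) : Set G), g * a * g⁻¹ = b
  /-- the element of order three of `N(S)` fixing `a` -/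
  fix_three : ∀ a ∈ (S : Subgroup G), a ≠ 1 → ∃ g ∈ normalizer ((S : Subgroup G) : Set G),
    Commute g a ∧ ∀ x ∈ (S : Subgroup G), Commute g x → x ∈ zpowers a
  /-- the structure of an involution centraliser modulo its core -/
  bar : ∀ a : G, orderOf a = 2 → ∀ ha : a ∈ centralizer ({a} : Set G),
    ∃ L : Subgroup (Bar (centralizer ({a} : Set G))), Cfsg.IsComponent L ∧ IsOddPSL ↥L ∧
      centralizer (L : Set (Bar (centralizer ({a} : Set G)))) =
        zpowers (toBar (centralizer ({a} : Set G)) ⟨a, ha⟩) ∧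
      Cfsg.generalizedFittingSubgroup (Bar (centralizer ({a} : Set G))) =
        zpowers (toBar (centralizer ({a} : Set G)) ⟨a, ha⟩) ⊔ L

end Cfsg.Agent.H77.Walter
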