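import Cfsg.Agent.H77.Walter.Core
import Cfsg.Agent.H57.Walter.CaseTwoThree
import Cfsg.Agent.H77.GW.BoundBasics
import Cfsg.Agent.S1247

/-!
# Walter's theorem, rank three, Case I: `C(t)` is not maximal

Let `H = C(t)` be maximal, `Ω = Ω₁(Z(O_r(H)))`.  If `S` does not centralise `Ω` some `y ∈ Ω` has
`E = C_S(y)` of order four and `Y = C_Ω(E)`; `N(Y)` has no component, so for `s ∈ E` the elements of
`O_r(C(s))` centralising `Y` and inverted by `t` are trivial, `t` centralises `O_r(C(s))`, and `S`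
centralises `O_r(H)`.  So `S` centralises the core.
-/

set_option autoImplicit false
set_option linter.unusedSectionVars false
set_option linter.style.haveILetI false

namespace Cfsg.Agent.H77.Walter

open Subgroup Cfsg.Agent
open Cfsg.Agent.H10.Walter (Bar coreAt)
open Cfsg.Agent.Components (pCoreIn isPGroup_pCoreIn)
open Cfsg.Agent.H77.GW (le_normalizer_pCoreIn pCoreIn_le_self)
open scoped commutatorElement

universe u

variable {G : Type u} [Group G] [Finite G] {S : Sylow 2 G}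

local instance fact_two_one : Fact (Nat.Prime 2) := ⟨Nat.prime_two⟩

/-- `Ω₁(Z(O_r(H)))`. -/
def omegaCentre (r : ℕ) (H : Subgroup G) : Subgroup G where
  carrier := {y | y ∈ pCoreIn r H ∧ (∀ f ∈ pCoreIn r H, Commute y f) ∧ y ^ r = 1}
  one_mem' := ⟨one_mem _, fun f _ => Commute.one_left f, one_pow r⟩
  mul_mem' := fun {a b} ha hb => ⟨mul_mem ha.1 hb.1, fun f hf => (ha.2.1 f hf).mul_left (hb.2.1 f hf),
    by rw [(ha.2.1 b hb.1).mul_pow, ha.2.2, hb.2.2, one_mul]⟩
  inv_mem' := fun {a} ha => ⟨inv_mem ha.1, fun f hf => (ha.2.1 f hf).inv_left,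
    by rw [inv_pow, ha.2.2, inv_one]⟩

theorem omegaCentre_le (r : ℕ) (H : Subgroup G) : omegaCentre r H ≤ pCoreIn r H := fun _ hy => hy.1

theorem omegaCentre_comm {r : ℕ} {H : Subgroup G} {a b : G} (ha : a ∈ omegaCentre r H)
    (hb : b ∈ omegaCentre r H) : Commute a b := ha.2.1 b hb.1

theorem conj_omegaCentre {r : ℕ} {H : Subgroup G} {h y : G} (hh : h ∈ H)
    (hy : y ∈ omegaCentre r H) : h * y * h⁻¹ ∈ omegaCentre r H := by
  have hn := le_normalizer_pCoreIn (p := r) H
  refine ⟨(mem_normalizer_iff.1 (hn hh) y).1 hy.1, fun f hf => ?_, by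
    rw [conj_pow, hy.2.2, mul_one, mul_inv_cancel]⟩
  have h1 := (hy.2.1 _ ((mem_normalizer_iff''.1 (hn hh) f).1 hf)).map (MulAut.conj h).toMonoidHom
  simpa [mul_assoc] using h1

theorem omegaCentre_ne_bot {r : ℕ} [Fact r.Prime] {H : Subgroup G} (hne : pCoreIn r H ≠ ⊥) :
    omegaCentre r H ≠ ⊥ := by
  intro e
  obtain ⟨z, hz, hzo, hzc⟩ := Components.exists_central_orderOf (isPGroup_pCoreIn H) hne
  have hm : z ∈ omegaCentre r H := by
    refine ⟨hz, fun f hf => ?_, by rw [← hzo, pow_orderOf_eq_one]⟩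
    exact ((mem_centralizer_singleton_iff.1 (hzc hf) : Commute f z)).symm
  rw [e, mem_bot] at hm
  rw [hm, orderOf_one] at hzo
  exact (Fact.out : r.Prime).ne_one hzo.symm

/-- `Ω₁(Z(O_r(H)))` commutes with `F*(H)`. -/
theorem gFit_commute_omega {r : ℕ} [Fact r.Prime] {H : Subgroup G} {y : G}
    (hy : y ∈ omegaCentre r H) {x : G}
    (hx : x ∈ (Cfsg.generalizedFittingSubgroup ↥H).map H.subtype) : Commute x y := by
  obtain ⟨x, hx, rfl⟩ := hx
  obtain ⟨y', hy', e⟩ := hy.1
  have hle : Cfsg.generalizedFittingSubgroup ↥H ≤ centralizer ({y'} : Set ↥H) := by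
    rw [Components.genFitting_eq_sup, Components.fitting_eq_iSup_pCore]
    refine sup_le (fun a ha => mem_centralizer_singleton_iff.2 ?_) (iSup_le fun q a ha =>
      mem_centralizer_singleton_iff.2 ?_)
    · exact (Components.commute_of_commutator_eq_bot Components.layer_commutator_fitting ha
        (Components.pCore_le_fitting r hy'))
    · haveI := Fact.mk (Nat.prime_of_mem_primeFactors q.2)
      by_cases hq : (q : ℕ) = r
      · refine Subtype.ext ?_
        have := hy.2.1 (a : G) ⟨a, hq ▸ ha, rfl⟩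
        rw [← e] at this
        exact this.symm.eq
      · exact (mem_centralizer_iff.1 (Components.pCore_le_centralizer_pCore hq ha) y' hy').symm
  have := congrArg Subtype.val (mem_centralizer_singleton_iff.1 (hle hx))
  rw [← e]
  exact this

namespace Three

variable (hT : Three S)
include hT

/-- An element of an abelian group of odd order normalised by `S` and not centralised by it: some
element of the group is centralised by a proper subgroup and inverted by the rest of `S`. -/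
theorem exists_axis {A : Subgroup G} (hAc : ∀ a ∈ A, ∀ b ∈ A, Commute a b)
    (hAo : Odd (Nat.card A)) (hAS : ∀ x ∈ (S : Subgroup G), ∀ a ∈ A, x * a * x⁻¹ ∈ A)
    (hne : ¬ (S : Subgroup G) ≤ centralizer (A : Set G)) :
    ∃ y ∈ A, y ≠ 1 ∧ ¬ (S : Subgroup G) ≤ centralizer ({y} : Set G) ∧
      ∀ x ∈ (S : Subgroup G), Commute x y ∨ x * y * x⁻¹ = y⁻¹ := by
  classical
  set T : Set G := {y | y ∈ A ∧ y ≠ 1 ∧ ∃ x ∈ (S : Subgroup G), x * y * x⁻¹ = y⁻¹} with hTd
  have hodd : ∀ {a : G}, a ∈ A → Odd (orderOf a) := fun ha =>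
    hAo.of_dvd_nat (Subgroup.orderOf_dvd_natCard A ha)
  have hnot : ∀ {a x : G}, a ∈ A → a ≠ 1 → x * a * x⁻¹ = a⁻¹ → ¬ Commute x a := by
    intro a x ha ha1 hi hc
    exact ha1 (H62.GW.eq_one_of_inverted (hodd ha) hi hc)
  have hTne : T.Nonempty := by
    obtain ⟨x, hx, hxA⟩ := SetLike.not_le_iff_exists.1 hne
    simp only [mem_centralizer_iff, SetLike.mem_coe, not_forall] at hxA
    obtain ⟨a, ha, hax⟩ := hxA
    refine ⟨a⁻¹ * (x * a * x⁻¹), mul_mem (inv_mem ha) (hAS x hx a ha), fun e => hax ?_, x, hx, ?_⟩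
    · have h1 : x * a * x⁻¹ = a := (inv_mul_eq_one.1 e).symm
      exact (mul_inv_eq_iff_eq_mul.1 h1).symm
    · have hxx : x * x = 1 := hT.sq x hx
      calc x * (a⁻¹ * (x * a * x⁻¹)) * x⁻¹ = (x * a * x⁻¹)⁻¹ * ((x * x) * a * (x * x)⁻¹) := by
            group
        _ = (x * a * x⁻¹)⁻¹ * a := by rw [hxx]; group
        _ = (a⁻¹ * (x * a * x⁻¹))⁻¹ := by group
  obtain ⟨y, hy, hmax⟩ := Set.exists_max_image T
    (fun y => Nat.card ↥((S : Subgroup G) ⊓ centralizer ({y} : Set G) : Subgroup G))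
    (Set.toFinite T) hTne
  obtain ⟨hyA, hy1, x0, hx0, hi0⟩ := hy
  refine ⟨y, hyA, hy1, fun hle => hnot hyA hy1 hi0
    (mem_centralizer_singleton_iff.1 (hle hx0)), fun x hx => ?_⟩
  by_cases hxy : Commute x y
  · exact Or.inl hxy
  right
  set u := y * (x * y * x⁻¹) with hu
  by_cases hu1 : u = 1
  · exact eq_inv_of_mul_eq_one_right hu1
  exfalso
  have huA : u ∈ A := mul_mem hyA (hAS x hx y hyA)
  have h0x : x0 * x = x * x0 := (hT.comm hx0 hx).eq
  have huT : u ∈ T := by
    refine ⟨huA, hu1, x0, hx0, ?_⟩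
    have hswap : x0 * (x * y * x⁻¹) * x0⁻¹ = x * (x0 * y * x0⁻¹) * x⁻¹ := by
      calc x0 * (x * y * x⁻¹) * x0⁻¹ = (x0 * x) * y * (x0 * x)⁻¹ := by group
        _ = (x * x0) * y * (x * x0)⁻¹ := by rw [h0x]
        _ = x * (x0 * y * x0⁻¹) * x⁻¹ := by group
    calc x0 * u * x0⁻¹ = (x0 * y * x0⁻¹) * (x0 * (x * y * x⁻¹) * x0⁻¹) := by rw [hu]; group
      _ = y⁻¹ * (x * y⁻¹ * x⁻¹) := by rw [hswap, hi0]
      _ = (x * y * x⁻¹ * y)⁻¹ := by group
      _ = u⁻¹ := by rw [hu, (hAc _ hyA _ (hAS x hx y hyA)).eq]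
  have hsub : (S : Subgroup G) ⊓ centralizer ({y} : Set G) <
      (S : Subgroup G) ⊓ centralizer ({u} : Set G) := by
    refine SetLike.lt_iff_le_and_exists.2 ⟨fun z hz => Subgroup.mem_inf.2 ⟨hz.1, ?_⟩, x,
      Subgroup.mem_inf.2 ⟨hx, ?_⟩,
      fun h => hxy (mem_centralizer_singleton_iff.1 (Subgroup.mem_inf.1 h).2)⟩
    · show z ∈ centralizer ({u} : Set G)
      rw [mem_centralizer_singleton_iff]
      have h1 : Commute z y := mem_centralizer_singleton_iff.1 hz.2
      have h2 : Commute z (x * y * x⁻¹) :=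
        ((hT.comm hz.1 hx).mul_right h1).mul_right (hT.comm hz.1 hx).inv_right
      exact (h1.mul_right h2).eq
    · show x ∈ centralizer ({u} : Set G)
      rw [mem_centralizer_singleton_iff]
      refine mul_inv_eq_iff_eq_mul.1 ?_
      calc x * u * x⁻¹ = (x * y * x⁻¹) * ((x * x) * y * (x * x)⁻¹) := by rw [hu]; group
        _ = (x * y * x⁻¹) * y := by rw [hT.sq x hx]; group
        _ = u := by rw [hu, (hAc _ hyA _ (hAS x hx y hyA)).eq]
  have hlt : Nat.card ↥((S : Subgroup G) ⊓ centralizer ({y} : Set G) : Subgroup G) <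
      Nat.card ↥((S : Subgroup G) ⊓ centralizer ({u} : Set G) : Subgroup G) :=
    lt_of_le_of_ne (card_le_of_le hsub.le) fun e => hsub.ne (eq_of_le_of_card_ge hsub.le e.ge)
  exact absurd (hmax u huT) (not_le.2 hlt)

/-- A rotation about `t` moves every four group through `t`. -/
theorem rot_not_mem {t : G} (htS : t ∈ (S : Subgroup G)) {g : G}
    (hgN : g ∈ normalizer ((S : Subgroup G) : Set G)) (hgt : Commute g t)
    (hfix : ∀ x ∈ (S : Subgroup G), Commute g x → x ∈ zpowers t) {s : G}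
    (hs : s ∈ (S : Subgroup G)) (hs1 : s ≠ 1) (hst : s ≠ t) :
    g * s * g⁻¹ ≠ 1 ∧ g * s * g⁻¹ ≠ t ∧ g * s * g⁻¹ ≠ s ∧ g * s * g⁻¹ ≠ t * s := by
  have hnc : ¬ Commute g s := fun h =>
    (eq_one_or_of_mem_zpowers (hT.sq t htS) (hfix s hs h)).elim hs1 hst
  refine ⟨fun e => hs1 (conj_eq_one_iff.1 e), fun e => hst ?_,
    fun e => hnc (mul_inv_eq_iff_eq_mul.1 e), fun e => hnc ?_⟩
  · calc s = g⁻¹ * (g * s * g⁻¹) * g := by group
      _ = g⁻¹ * t * g := by rw [e]
      _ = t := by rw [mul_assoc, ← hgt.eq, inv_mul_cancel_left]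
  · refine H57.Walter.commute_of_commute_sq hT.cfg.absyl hgN hs (mul_inv_eq_iff_eq_mul.1 ?_)
    calc g * g * s * (g * g)⁻¹ = g * (g * s * g⁻¹) * g⁻¹ := by group
      _ = g * (t * s) * g⁻¹ := by rw [e]
      _ = (g * t * g⁻¹) * (g * s * g⁻¹) := by group
      _ = t * (t * s) := by rw [hgt.eq, mul_inv_cancel_right, e]
      _ = s := by rw [← mul_assoc, hT.sq t htS, one_mul]

/-- The square of a rotation is one. -/
theorem rot_sq {t : G} {g : G}
    (hgN : g ∈ normalizer ((S : Subgroup G) : Set G))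
    (hfix : ∀ x ∈ (S : Subgroup G), Commute g x → x ∈ zpowers t) :
    ∀ x ∈ (S : Subgroup G), Commute (g * g) x → x ∈ zpowers t := fun x hx hc =>
  hfix x hx (H57.Walter.commute_of_commute_sq hT.cfg.absyl hgN hx hc)

/-- No component: `E = C_S(y)` of order four contains the trace of a component. -/
theorem no_component {X : Subgroup G} (hSX : (S : Subgroup G) ≤ X) {E : Subgroup G}
    (hES : E ≤ (S : Subgroup G)) (hEne : E ≠ (S : Subgroup G)) {s : G} (hsE : s ∈ E) (hs1 : s ≠ 1)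
    (hKE : ∀ K : Subgroup X, Cfsg.IsComponent K → ∀ x ∈ (S : Subgroup G), ∀ hx : x ∈ X,
      (⟨x, hx⟩ : X) ∈ K → x ∈ E)
    (hw : ∀ c ∈ (S : Subgroup G), c ∉ E →
      ∃ w ∈ X, w ≠ 1 ∧ Odd (orderOf w) ∧ c * w * c⁻¹ = w⁻¹ ∧ s * w * s⁻¹ = w⁻¹) :
    Cfsg.layer X = ⊥ := by
  refine Components.layer_eq_bot_iff.mpr fun K hK => ?_
  set T : Sylow 2 X := S.subtype hSX with hTd
  have hTK : ∀ K : Subgroup X, Cfsg.IsComponent K →
      (((T : Subgroup X) ⊓ K).map X.subtype) = E := by
    intro K hK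
    have hle : ((T : Subgroup X) ⊓ K).map X.subtype ≤ E := by
      rintro _ ⟨x, ⟨hxT, hxK⟩, rfl⟩
      exact hKE K hK x hxT x.2 hxK
    refine eq_of_le_of_card_ge hle ?_
    rw [Subgroup.card_map_of_injective X.subtype_injective]
    exact (hT.card_le_four hES hEne).trans (four_le_sylow_inf hK T)
  have hsK : ∀ K : Subgroup X, Cfsg.IsComponent K → (⟨s, hSX (hES hsE)⟩ : X) ∈ K := by
    intro K hK
    obtain ⟨x, ⟨-, hxK⟩, e⟩ := (hTK K hK).ge hsE
    rwa [show (⟨s, hSX (hES hsE)⟩ : X) = x from Subtype.ext e.symm]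
  have huniq : ∀ K' : Subgroup X, Cfsg.IsComponent K' → K' = K := by
    intro K' hK'
    by_contra hne
    haveI : Group.IsPerfect ↥K := hK.2.1
    obtain ⟨P⟩ : Nonempty (Sylow 2 K) := inferInstance
    haveI : IsMulCommutative ↥(P : Subgroup K) := ((hT.cfg.absyl.subgroup X).subgroup K) P
    have hcen : (⟨_, hsK K hK⟩ : K) ∈ center K := mem_center_iff.2 fun z => Subtype.ext
      (Components.commute_of_commutator_eq_bot (Components.components_commute hK hK' (Ne.symm hne))
        z.2 (hsK K' hK'))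
    have h1 := Components.eq_one_of_perfect_center P hcen
      (Subtype.ext (Subtype.ext (by simp [pow_two, hT.sq s (hES hsE)])))
    exact hs1 (congrArg Subtype.val (congrArg Subtype.val h1))
  obtain ⟨x0, hx0, hx0E⟩ := SetLike.not_le_iff_exists.1
    (fun h => hEne (le_antisymm hES h) : ¬ (S : Subgroup G) ≤ E)
  obtain ⟨g, hg, hgc⟩ := component_inner (hT.cfg.absyl.subgroup X) hK T
    (x := ⟨x0, hSX hx0⟩) hx0
  have hgS : (g : G) ∈ (S : Subgroup G) := hg.1
  have hgE : (g : G) ∈ E := hKE K hK _ hgS g.2 hg.2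
  obtain ⟨w, hwX, hw1, hwo, hcw, hsw⟩ := hw (x0 * (g : G)⁻¹) (mul_mem hx0 (inv_mem hgS))
    fun h => hx0E (by simpa using mul_mem h hgE)
  set w' : X := ⟨w, hwX⟩ with hw'
  set c : X := ⟨x0, hSX hx0⟩ * g⁻¹ with hc
  have hcw' : c * w' * c⁻¹ = w'⁻¹ := Subtype.ext hcw
  have hwK : ∀ k ∈ K, w' * k * w'⁻¹ ∈ K := by
    intro k hk
    have h := huniq _ (Components.component_conj hK w')
    rw [← h]
    exact ⟨k, hk, rfl⟩
  have hwwK : ∀ k ∈ K, Commute (w' * w') k := by
    intro k hk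
    have hck : ∀ k ∈ K, c * k * c⁻¹ = k := fun k hk => by
      rw [(mem_centralizer_iff.1 hgc k hk).symm, mul_inv_cancel_right]
    have h1 : w' * k * w'⁻¹ = w'⁻¹ * k * w' := by
      calc w' * k * w'⁻¹ = c * (w' * k * w'⁻¹) * c⁻¹ := (hck _ (hwK k hk)).symm
        _ = (c * w' * c⁻¹) * (c * k * c⁻¹) * (c * w' * c⁻¹)⁻¹ := by group
        _ = w'⁻¹ * k * w' := by rw [hcw', hck k hk, inv_inv]
    refine mul_inv_eq_iff_eq_mul.1 ?_
    calc w' * w' * k * (w' * w')⁻¹ = w' * (w' * k * w'⁻¹) * w'⁻¹ := by group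
      _ = w' * (w'⁻¹ * k * w') * w'⁻¹ := by rw [h1]
      _ = k := by group
  have hs2 : Commute (w * w) s := congrArg Subtype.val (hwwK _ (hsK K hK))
  obtain ⟨m, hm⟩ := hwo
  have hwpow : w = (w * w) ^ (m + 1) := by
    rw [← pow_two, ← pow_mul, show 2 * (m + 1) = orderOf w + 1 by omega, pow_succ,
      pow_orderOf_eq_one, one_mul]
  have hsc : Commute s w := by
    rw [hwpow]
    exact hs2.symm.pow_right _
  exact hw1 (H62.GW.eq_one_of_inverted ⟨m, hm⟩ hsw hsc)

/-- An element of `O_r(C(s))` normalising `Y` and inverted by `t` is trivial, when `N(Y)` contains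
`S` and `F*(C(t))` and has no component. -/
theorem eq_one_of_inverted_core {t : G} (htS : t ∈ (S : Subgroup G)) (ht1 : t ≠ 1)
    (hmax : IsCoatom (centralizer ({t} : Set G))) {r : ℕ} [Fact r.Prime] (hr : r ≠ 2)
    (hrH : pCoreIn r (centralizer ({t} : Set G)) ≠ ⊥) {X : Subgroup G}
    (hSX : (S : Subgroup G) ≤ X)
    (hFX : (Cfsg.generalizedFittingSubgroup ↥(centralizer ({t} : Set G))).map
      (centralizer ({t} : Set G)).subtype ≤ X)
    (hX : Cfsg.layer X = ⊥) {s : G} (hs : s ∈ (S : Subgroup G)) {z : G}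
    (hz : z ∈ pCoreIn r (centralizer ({s} : Set G))) (hzX : z ∈ X)
    (hzt : t * z * t⁻¹ = z⁻¹) : z = 1 := by
  set H := centralizer ({t} : Set G) with hH
  haveI := hT.cfg.simple
  have htt : t * t = 1 := hT.sq t htS
  have htX : t ∈ X := hSX htS
  have hzo : Odd (orderOf z) := by
    obtain ⟨k, hk⟩ := isPGroup_pCoreIn (p := r) (centralizer ({s} : Set G)) ⟨z, hz⟩
    exact Odd.of_dvd_nat (((Fact.out : r.Prime).odd_of_ne_two hr).pow)
      (orderOf_dvd_of_pow_eq_one (by simpa using congrArg Subtype.val hk))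
  obtain ⟨ha, hb⟩ := Cfsg.Agent.S1247.result hT.cfg.nonab H hmax
    ((Cfsg.generalizedFittingSubgroup ↥H).map H.subtype) le_rfl
    (by rw [subgroupOf_self]; exact Normal.isSubnormal inferInstance) inf_le_left X hFX
  have htH : t ∈ H := mem_centralizer_singleton_iff.2 rfl
  have htF : (⟨t, htH⟩ : H) ∈ Cfsg.generalizedFittingSubgroup ↥H := by
    refine Components.fitting_le_genFitting
      (Components.normal_nilpotent_le_fitting (N := zpowers (⟨t, htH⟩ : H)) ⟨fun a haz b => ?_⟩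
        ⟨⟨1, Subgroup.upperCentralSeries_one_eq_top_iff.2 inferInstance⟩⟩ (mem_zpowers _))
    obtain ⟨i, rfl⟩ := mem_zpowers_iff.1 haz
    have h : Commute b (⟨t, htH⟩ : H) := Subtype.ext (mem_centralizer_singleton_iff.1 b.2)
    rw [(h.zpow_right i).eq, mul_inv_cancel_right]
    exact zpow_mem (mem_zpowers _) i
  -- `t` centralises `O_p(X)` for the primes of `F(H)`, and for `2`
  have hcom : ∀ p : ℕ, p.Prime → p = 2 ∨ p ∣ Nat.card (Cfsg.fittingSubgroup ↥H) →
      ∀ v ∈ pCoreIn p X, Commute t v := by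
    intro p hp hpd v hv
    by_cases h2 : p = 2
    · subst h2
      have hle := (isPGroup_pCoreIn (p := 2) X).to_sup_of_normal_left' S.isPGroup'
        (hSX.trans (le_normalizer_pCoreIn X))
      have hvS : v ∈ (S : Subgroup G) := by
        rw [← S.is_maximal' hle le_sup_right]
        exact mem_sup_left hv
      exact hT.comm htS hvS
    · refine (show v * t = t * v from hb p hp (hpd.resolve_left h2) v hv ⟨t, htH⟩
        ⟨⟨⟨t, htH⟩, htF⟩, Fusion.mem_pResidual ?_, rfl⟩).symm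
      rw [Subgroup.orderOf_mk, Subgroup.orderOf_mk, hT.two htS ht1]
      exact (Nat.coprime_primes Nat.prime_two hp).2 (Ne.symm h2)
  have hrd : r ∣ Nat.card (Cfsg.fittingSubgroup ↥H) := by
    have h1 : Cfsg.pCore r ↥H ≠ ⊥ := fun e => hrH (by rw [pCoreIn, e, Subgroup.map_bot])
    obtain ⟨n, hn⟩ := IsPGroup.iff_card.1 (Components.isPGroup_pCore r (G := ↥H))
    have hn0 : n ≠ 0 := fun e => h1 (Subgroup.eq_bot_of_card_eq _ (by rw [hn, e, pow_zero]))
    exact ((dvd_pow_self r hn0).trans hn.symm.dvd).trans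
      (card_dvd_of_le (Components.pCore_le_fitting r))
  -- `z` centralises every `O_q(X)`
  have hzq : ∀ q : ℕ, q.Prime → ∀ v ∈ pCoreIn q X, Commute z v := by
    intro q hq v hv
    haveI := Fact.mk hq
    have hnX : ∀ {a b : G}, a ∈ X → b ∈ pCoreIn q X → a * b * a⁻¹ ∈ pCoreIn q X := fun ha hb =>
      (mem_normalizer_iff.1 (le_normalizer_pCoreIn X ha) _).1 hb
    have hsq : Commute (z * z) v → Commute z v := fun h => by
      obtain ⟨m, hm⟩ := hzo
      have e : z = (z * z) ^ (m + 1) := by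
        rw [← pow_two, ← pow_mul, show 2 * (m + 1) = orderOf z + 1 by omega, pow_succ,
          pow_orderOf_eq_one, one_mul]
      rw [e]
      exact h.pow_left _
    -- `z` and `z⁻¹` act alike on what an inverter of `z` centralises
    have hkey : ∀ {i a : G}, i * z * i⁻¹ = z⁻¹ → Commute i a → Commute i (z * a * z⁻¹) →
        Commute (z * z) a := by
      intro i a hi hia hiz
      have e : z * a * z⁻¹ = z⁻¹ * a * z := by
        calc z * a * z⁻¹ = i * (z * a * z⁻¹) * i⁻¹ := by rw [hiz.eq, mul_inv_cancel_right]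
          _ = (i * z * i⁻¹) * (i * a * i⁻¹) * (i * z * i⁻¹)⁻¹ := by group
          _ = z⁻¹ * a * z := by rw [hi, hia.eq, mul_inv_cancel_right, inv_inv]
      refine mul_inv_eq_iff_eq_mul.1 ?_
      calc z * z * a * (z * z)⁻¹ = z * (z * a * z⁻¹) * z⁻¹ := by group
        _ = z * (z⁻¹ * a * z) * z⁻¹ := by rw [e]
        _ = a := by group
    by_cases hqd : q = 2 ∨ q ∣ Nat.card (Cfsg.fittingSubgroup ↥H)
    · exact hsq (hkey hzt (hcom q hq hqd v hv) (hcom q hq hqd _ (hnX hzX hv)))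
    push Not at hqd
    obtain ⟨hq2, hqd⟩ := hqd
    have hqr : q ≠ r := fun e => hqd (e ▸ hrd)
    have hinv : ∀ a ∈ pCoreIn q X, t * a * t⁻¹ = a⁻¹ :=
      H77.GW.inverts_of_fpf htt (le_normalizer_pCoreIn X htX) fun a haq hac =>
        (mem_bot (G := G)).1 ((ha q hq hqd).le
          ⟨haq, mem_centralizer_singleton_iff.2 hac.eq.symm⟩)
    have hodd : Odd (Nat.card (pCoreIn q X)) := by
      obtain ⟨n, hn⟩ := IsPGroup.iff_card.1 (isPGroup_pCoreIn (p := q) X)
      rw [hn]
      exact (hq.odd_of_ne_two hq2).pow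
    have hss : s * s = 1 := hT.sq s hs
    have hzs : Commute z s :=
      mem_centralizer_singleton_iff.1 (pCoreIn_le_self _ hz)
    obtain ⟨x, hx, f, hf, hxi, hsf, rfl⟩ := H77.GW.Bound.exists_decomp hss hodd
      (fun a haq => hnX (hSX hs) haq) hv
    refine Commute.mul_right ?_ ?_
    · -- `s t` centralises the part inverted by `s`, and inverts `z`
      have hts : t * s = s * t := (hT.comm htS hs).eq
      have hi : s * t * z * (s * t)⁻¹ = z⁻¹ := by
        calc s * t * z * (s * t)⁻¹ = s * (t * z * t⁻¹) * s⁻¹ := by group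
          _ = z⁻¹ := by rw [hzt, hzs.inv_left.symm.eq, mul_inv_cancel_right]
      have hcx : ∀ {a : G}, a ∈ pCoreIn q X → s * a * s⁻¹ = a⁻¹ → Commute (s * t) a := by
        intro a haq has
        refine mul_inv_eq_iff_eq_mul.1 ?_
        calc s * t * a * (s * t)⁻¹ = s * (t * a * t⁻¹) * s⁻¹ := by group
          _ = (s * a * s⁻¹)⁻¹ := by rw [hinv a haq]; group
          _ = a := by rw [has, inv_inv]
      have hzx : s * (z * x * z⁻¹) * s⁻¹ = (z * x * z⁻¹)⁻¹ := by
        calc s * (z * x * z⁻¹) * s⁻¹ = (s * z * s⁻¹) * (s * x * s⁻¹) * (s * z * s⁻¹)⁻¹ := by group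
          _ = z * x⁻¹ * z⁻¹ := by rw [hxi, hzs.symm.eq, mul_inv_cancel_right]
          _ = (z * x * z⁻¹)⁻¹ := by group
      have h := hkey hi (hcx hx hxi) (hcx (hnX hzX hx) hzx)
      obtain ⟨m, hm⟩ := hzo
      have e : z = (z * z) ^ (m + 1) := by
        rw [← pow_two, ← pow_mul, show 2 * (m + 1) = orderOf z + 1 by omega, pow_succ,
          pow_orderOf_eq_one, one_mul]
      rw [e]
      exact h.pow_left _
    · exact (H77.GW.commute_cross hqr hf (mem_centralizer_singleton_iff.2 hsf.eq.symm) hz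
        hzX).symm
  -- so `z` lies in `O_r(X)`
  have hgen : (zpowers (⟨z, hzX⟩ : X)) ≤ Cfsg.fittingSubgroup X := by
    rw [zpowers_le]
    have h := Components.centralizer_genFitting_le (G := ↥X)
      (show (⟨z, hzX⟩ : X) ∈ centralizer (Cfsg.generalizedFittingSubgroup X : Set X) by
        rw [Components.genFitting_eq_sup, hX, bot_sup_eq, Components.fitting_eq_iSup_pCore]
        intro a ha
        have hle : (⨆ q : (Nat.card X).primeFactors, Cfsg.pCore (q : ℕ) X)
            ≤ centralizer ({(⟨z, hzX⟩ : X)} : Set X) := by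
          refine iSup_le fun q v hv => mem_centralizer_singleton_iff.2 (Subtype.ext ?_)
          exact (hzq q (Nat.prime_of_mem_primeFactors q.2) _ ⟨v, hv, rfl⟩).symm.eq
        exact mem_centralizer_singleton_iff.1 (hle ha))
    rwa [Components.genFitting_eq_sup, hX, bot_sup_eq] at h
  have hzr : IsPGroup r (zpowers (⟨z, hzX⟩ : X)) := by
    obtain ⟨k, hk⟩ := isPGroup_pCoreIn (p := r) (centralizer ({s} : Set G)) ⟨z, hz⟩
    obtain ⟨j, -, hj⟩ := (Nat.dvd_prime_pow (Fact.out : r.Prime)).1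
      (orderOf_dvd_of_pow_eq_one (by simpa using congrArg Subtype.val hk : z ^ r ^ k = 1))
    exact IsPGroup.of_card (n := j) (by rw [Nat.card_zpowers, Subgroup.orderOf_mk, hj])
  have hzR : z ∈ pCoreIn r X :=
    ⟨⟨z, hzX⟩, Components.le_pCore_of_le_fitting hzr hgen (mem_zpowers _), rfl⟩
  exact H62.GW.eq_one_of_inverted hzo hzt (hcom r Fact.out (Or.inr hrd) z hzR)

/-- If the inverted elements of `C_Q(Y)`, `Q = O_r(C(s))`, are trivial then `S` centralises
`O_r(C(t))`. -/
theorem sylow_le_of_trivial_inverted {t : G} (htS : t ∈ (S : Subgroup G)) (ht1 : t ≠ 1)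
    {r : ℕ} [Fact r.Prime] (hr : r ≠ 2) {s : G} (hs : s ∈ (S : Subgroup G)) (hs1 : s ≠ 1)
    (hst : s ≠ t) {Y : Subgroup G} (hYr : IsPGroup r Y) (hYs : ∀ y ∈ Y, Commute y s)
    (hYt : ∀ y ∈ Y, Commute y t)
    (hinv : ∀ z ∈ pCoreIn r (centralizer ({s} : Set G)), (∀ y ∈ Y, Commute z y) →
      t * z * t⁻¹ = z⁻¹ → z = 1) :
    (S : Subgroup G) ≤ centralizer (pCoreIn r (centralizer ({t} : Set G)) : Set G) := by
  set Q := pCoreIn r (centralizer ({s} : Set G)) with hQ
  have hQn := le_normalizer_pCoreIn (p := r) (centralizer ({s} : Set G))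
  have htQ : t ∈ normalizer (Q : Set G) := hQn (hT.le_cent hs htS)
  have hcent : zpowers t ≤ centralizer (Q : Set G) := by
    refine Coprime.thompson_AxB hYr ?_ ?_ Q (isPGroup_pCoreIn _) (fun y hy => hQn
      (mem_centralizer_singleton_iff.2 (hYs y hy).eq)) (zpowers_le.2 htQ) ?_
    · rw [Nat.card_zpowers, hT.two htS ht1]
      exact (Nat.coprime_primes Nat.prime_two Fact.out).2 (Ne.symm hr)
    · intro y hy w hw
      obtain ⟨i, rfl⟩ := mem_zpowers_iff.1 hw
      exact ((hYt y hy).zpow_right i).eq.symm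
    · intro x hx w hw
      obtain ⟨i, rfl⟩ := mem_zpowers_iff.1 hw
      refine (Commute.zpow_right ?_ i).eq.symm
      have hxY : ∀ y ∈ Y, Commute x y := fun y hy => (mem_centralizer_iff.1 hx.2 y hy).symm
      set d := x⁻¹ * (t * x * t⁻¹) with hd
      have hd1 : d = 1 := by
        refine hinv d (mul_mem (inv_mem hx.1) ((mem_normalizer_iff.1 htQ x).1 hx.1))
          (fun y hy => ?_) ?_
        · exact ((hxY y hy).inv_left).mul_left
            (((hYt y hy).symm.mul_left (hxY y hy)).mul_left (hYt y hy).symm.inv_left)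
        · calc t * d * t⁻¹ = (t * x * t⁻¹)⁻¹ * ((t * t) * x * (t * t)⁻¹) := by rw [hd]; group
            _ = (t * x * t⁻¹)⁻¹ * x := by rw [hT.sq t htS]; group
            _ = d⁻¹ := by rw [hd]; group
      exact (mul_inv_eq_iff_eq_mul.1 (inv_mul_eq_one.1 hd1).symm).symm
  obtain ⟨g, hgN, hgs⟩ := hT.trans s hs t htS hs1 ht1
  set x := g * t * g⁻¹ with hx
  have hxS : x ∈ (S : Subgroup G) := (mem_normalizer_iff.1 hgN t).1 htS
  have hxt : x ≠ t := fun e => hst (by
    have h : g * t * g⁻¹ = g * s * g⁻¹ := by rw [← hx, e, hgs]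
    exact (mul_left_cancel (mul_right_cancel h)).symm)
  set H := centralizer ({t} : Set G) with hH
  have hxF : ∀ f ∈ pCoreIn r H, Commute x f := by
    intro f hf
    have h := conj_mem_pCoreIn_centralizer g⁻¹ hf
    rw [inv_inv, show g⁻¹ * t * g = s by rw [← hgs]; group] at h
    have hc : Commute t (g⁻¹ * f * g) :=
      (mem_centralizer_iff.1 (hcent (mem_zpowers t)) _ h).symm
    have := hc.map (MulAut.conj g).toMonoidHom
    simpa [hx, mul_assoc] using this
  -- normal closure of `x` modulo the core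
  have htH : t ∈ H := mem_centralizer_singleton_iff.2 rfl
  have hSH : (S : Subgroup G) ≤ H := hT.le_cent htS
  set N : Subgroup H := centralizer (Cfsg.pCore r ↥H : Set H) with hN
  have hmemN : ∀ {a : G} (ha : a ∈ H), (⟨a, ha⟩ : H) ∈ N ↔ ∀ f ∈ pCoreIn r H, Commute a f := by
    intro a ha
    refine ⟨?_, fun h => mem_centralizer_iff.2 fun w hw =>
      (Subtype.ext (h _ ⟨w, hw, rfl⟩).eq).symm⟩
    rintro h _ ⟨w, hw, rfl⟩
    exact (congrArg Subtype.val (mem_centralizer_iff.1 h w hw)).symm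
  have htN : (⟨t, htH⟩ : H) ∈ N := (hmemN htH).2 fun f hf =>
    (mem_centralizer_singleton_iff.1 (pCoreIn_le_self _ hf) : Commute f t).symm
  have hxN : (⟨x, hSH hxS⟩ : H) ∈ N := (hmemN _).2 hxF
  obtain ⟨L, hL, hLP, hCL, hF⟩ := hT.bar t (hT.two htS ht1) htH
  haveI := hT.comp_normal hL hCL
  set Nb := N.map (QuotientGroup.mk' (Cfsg.oddCore ↥H)) with hNb
  haveI : Nb.Normal := Subgroup.Normal.map inferInstance _ (QuotientGroup.mk'_surjective _)
  obtain ⟨v, hv, hxv⟩ := hT.exists_split htS htH hCL hF hxS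
  have htb : toBar H ⟨t, htH⟩ ∈ Nb := mem_map_of_mem _ htN
  have hxb : toBar H ⟨x, hSH hxS⟩ ∈ Nb := mem_map_of_mem _ hxN
  have hvN : v ∈ Nb := by
    rcases hxv with e | e
    · exact e ▸ hxb
    · rw [show v = (toBar H ⟨t, htH⟩)⁻¹ * toBar H ⟨x, hSH hxS⟩ from by
        show v = _⁻¹ * toBar (centralizer ({t} : Set G)) ⟨x, hT.le_cent htS hxS⟩
        rw [e, inv_mul_cancel_left]]
      exact mul_mem (inv_mem htb) hxb
  have hv1 : v ≠ 1 := by
    rintro rfl
    rcases hxv with e | e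
    · exact ht1 (conj_eq_one_iff.1 (hT.toBar_inj (b := t) hxS (one_mem _) (hy := one_mem H)
        (e.trans (map_one _).symm)))
    · exact hxt (hT.toBar_inj (b := t) hxS htS (e.trans (mul_one _)))
  have hLN : L ≤ Nb := by
    haveI : IsSimpleGroup ↥L := (hT.cfg.component_simple_bar H hL).1
    rcases (inferInstance : (Nb.subgroupOf L).Normal).eq_bot_or_eq_top with e | e
    · exact absurd (congrArg Subtype.val
        ((mem_bot (G := ↥L)).1 (e.le (show (⟨v, hv⟩ : L) ∈ Nb.subgroupOf L from hvN)))) hv1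
    · exact subgroupOf_eq_top.1 e
  intro u hu
  refine mem_centralizer_iff.2 fun f hf => ((hmemN (hSH hu)).1 ?_ f hf).symm.eq
  have hub : toBar H ⟨u, hSH hu⟩ ∈ Nb := by
    obtain ⟨w, hw, e | e⟩ := hT.exists_split htS htH hCL hF hu
    · exact e ▸ hLN hw
    · exact e ▸ mul_mem htb (hLN hw)
  obtain ⟨n, hn, hne⟩ := hub
  have hd : n⁻¹ * (⟨u, hSH hu⟩ : H) ∈ Cfsg.oddCore ↥H := by
    rw [← QuotientGroup.eq_one_iff]
    show QuotientGroup.mk' _ _ = 1
    rw [map_mul, map_inv, hne, inv_mul_cancel]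
  set q := QuotientGroup.mk' N with hq
  have hqn : q n = 1 := (QuotientGroup.eq_one_iff n).2 hn
  have hqu : q ⟨u, hSH hu⟩ = q (n⁻¹ * ⟨u, hSH hu⟩) := by
    rw [map_mul, map_inv, hqn, inv_one, one_mul]
  rw [← QuotientGroup.eq_one_iff]
  show q ⟨u, hSH hu⟩ = 1
  refine eq_one_of_odd_sq ?_ ?_
  · rw [hqu]
    exact ((Cores.odd_card_oddCore (G := ↥H)).of_dvd_nat
      (Subgroup.orderOf_dvd_natCard _ hd)).of_dvd_nat (orderOf_map_dvd q _)
  · rw [← map_mul, show (⟨u, hSH hu⟩ : H) * ⟨u, hSH hu⟩ = 1 from Subtype.ext (hT.sq u hu),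
      map_one]

/-- In Case I, `S` centralises every `O_r(C(t))`. -/
theorem sylow_le_centralizer_pCoreIn {t : G} (htS : t ∈ (S : Subgroup G)) (ht1 : t ≠ 1)
    (hmax : IsCoatom (centralizer ({t} : Set G))) (r : ℕ) [Fact r.Prime] :
    (S : Subgroup G) ≤ centralizer (pCoreIn r (centralizer ({t} : Set G)) : Set G) := by
  classical
  set H := centralizer ({t} : Set G) with hH
  have hSH : (S : Subgroup G) ≤ H := hT.le_cent htS
  by_cases hF : pCoreIn r H = ⊥
  · intro u _
    refine mem_centralizer_iff.2 fun f hf => ?_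
    rw [hF, SetLike.mem_coe, mem_bot] at hf
    rw [hf, one_mul, mul_one]
  by_cases hr : r = 2
  · subst hr
    have hle := (isPGroup_pCoreIn (p := 2) H).to_sup_of_normal_left' S.isPGroup'
      (hSH.trans (le_normalizer_pCoreIn H))
    intro u hu
    refine mem_centralizer_iff.2 fun f hf => ?_
    have hfS : f ∈ (S : Subgroup G) := by
      rw [← S.is_maximal' hle le_sup_right]
      exact mem_sup_left hf
    exact (hT.comm hfS hu).eq
  set Om := omegaCentre r H with hOm
  have hOmH : Om ≤ H := (omegaCentre_le r H).trans (pCoreIn_le_self H)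
  have hOmr : IsPGroup r Om := (isPGroup_pCoreIn H).to_le (omegaCentre_le r H)
  have hOmt : ∀ y ∈ Om, Commute y t := fun y hy => mem_centralizer_singleton_iff.1 (hOmH hy)
  have hOmS : ∀ x ∈ (S : Subgroup G), ∀ a ∈ Om, x * a * x⁻¹ ∈ Om := fun x hx a ha =>
    conj_omegaCentre (hSH hx) ha
  have hOmodd : Odd (Nat.card Om) := by
    obtain ⟨n, hn⟩ := IsPGroup.iff_card.1 hOmr
    rw [hn]
    exact ((Fact.out : r.Prime).odd_of_ne_two hr).pow
  by_cases hcase : (S : Subgroup G) ≤ centralizer (Om : Set G)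
  · obtain ⟨s, hs, hsn⟩ := hT.exists_not_mem {1, t}
      (lt_of_le_of_lt Finset.card_le_two (by norm_num))
    simp only [Finset.mem_insert, Finset.mem_singleton, not_or] at hsn
    refine hT.sylow_le_of_trivial_inverted htS ht1 hr hs hsn.1 hsn.2 hOmr
      (fun y hy => mem_centralizer_iff.1 (hcase hs) y hy) hOmt fun z hz hzY hzt => ?_
    haveI := hT.cfg.simple
    have hN : normalizer (Om : Set G) = H := Components.coatom_normalizer hmax Om
      (omegaCentre_ne_bot hF) hOmH fun h hh => Coprime.mem_normalizer_of_map_conj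
        (eq_of_le_of_card_ge (by rintro _ ⟨a, ha, rfl⟩; exact conj_omegaCentre hh ha)
          (by rw [Coprime.card_map_conj]))
    have hzH : z ∈ H := hN ▸ centralizer_le_normalizer _
      (mem_centralizer_iff.2 fun y hy => (hzY y hy).symm.eq)
    have hzo : Odd (orderOf z) := by
      obtain ⟨k, hk⟩ := isPGroup_pCoreIn (p := r) (centralizer ({s} : Set G)) ⟨z, hz⟩
      exact Odd.of_dvd_nat (((Fact.out : r.Prime).odd_of_ne_two hr).pow)
        (orderOf_dvd_of_pow_eq_one (by simpa using congrArg Subtype.val hk))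
    exact H62.GW.eq_one_of_inverted hzo hzt
      (show Commute t z from (mem_centralizer_singleton_iff.1 hzH : Commute z t).symm)
  obtain ⟨y, hy, hy1, hyS, hdich⟩ := hT.exists_axis (fun a ha b hb => omegaCentre_comm ha hb)
    hOmodd hOmS hcase
  set E := (S : Subgroup G) ⊓ centralizer ({y} : Set G) with hE
  have hES : E ≤ (S : Subgroup G) := inf_le_left
  have hEne : E ≠ (S : Subgroup G) := fun e => hyS (e ▸ inf_le_right)
  have htE : t ∈ E := ⟨htS, mem_centralizer_singleton_iff.2 (hOmt y hy).symm.eq⟩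
  obtain ⟨s, hsE, hs1, hst⟩ : ∃ s ∈ E, s ≠ 1 ∧ s ≠ t := by
    obtain ⟨x0, hx0, hx0E⟩ := SetLike.not_le_iff_exists.1
      (fun h => hEne (le_antisymm hES h) : ¬ (S : Subgroup G) ≤ E)
    obtain ⟨z, hz, hzn⟩ := hT.exists_not_mem {1, t, x0, x0 * t}
      (lt_of_le_of_lt Finset.card_le_four (by norm_num))
    simp only [Finset.mem_insert, Finset.mem_singleton, not_or] at hzn
    obtain ⟨hz1, hzt, hzx, hzxt⟩ := hzn
    by_cases hzE : z ∈ E
    · exact ⟨z, hzE, hz1, hzt⟩
    refine ⟨x0 * z, ⟨mul_mem hx0 hz, mem_centralizer_singleton_iff.2 ?_⟩, fun e => hzx ?_,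
      fun e => hzxt ?_⟩
    · have e1 : x0 * y * x0⁻¹ = y⁻¹ := (hdich x0 hx0).resolve_left fun h =>
        hx0E ⟨hx0, mem_centralizer_singleton_iff.2 h.eq⟩
      have e2 : z * y * z⁻¹ = y⁻¹ := (hdich z hz).resolve_left fun h =>
        hzE ⟨hz, mem_centralizer_singleton_iff.2 h.eq⟩
      refine mul_inv_eq_iff_eq_mul.1 ?_
      calc x0 * z * y * (x0 * z)⁻¹ = x0 * (z * y * z⁻¹) * x0⁻¹ := by group
        _ = (x0 * y * x0⁻¹)⁻¹ := by rw [e2]; group
        _ = y := by rw [e1, inv_inv]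
    · rw [← inv_eq_of_mul_eq_one_right e, hT.inv_eq hx0]
    · rw [← e, ← mul_assoc, hT.sq x0 hx0, one_mul]
  have hsS : s ∈ (S : Subgroup G) := hES hsE
  set Y := Om ⊓ centralizer (E : Set G) with hY
  have hyY : y ∈ Y := ⟨hy, mem_centralizer_iff.2 fun e he =>
    mem_centralizer_singleton_iff.1 he.2⟩
  set X := normalizer (Y : Set G) with hX
  have hSX : (S : Subgroup G) ≤ X := by
    intro x hx
    refine Coprime.mem_normalizer_of_map_conj
      (eq_of_le_of_card_ge ?_ (by rw [Coprime.card_map_conj]))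
    rintro _ ⟨a, ha, rfl⟩
    refine ⟨hOmS x hx a ha.1, mem_centralizer_iff.2 fun e he => ?_⟩
    show e * (x * a * x⁻¹) = x * a * x⁻¹ * e
    have h1 : Commute e x := hT.comm (hES he) hx
    have h2 : Commute e a := mem_centralizer_iff.1 ha.2 e he
    exact ((h1.mul_right h2).mul_right h1.inv_right).eq
  have hcX : ∀ {a : G}, (∀ b ∈ Y, Commute a b) → a ∈ X := fun {a} h =>
    centralizer_le_normalizer _ (mem_centralizer_iff.2 fun b hb => (h b hb).symm.eq)
  have hYX : Y ≤ X := fun a ha => hcX fun b hb => omegaCentre_comm ha.1 hb.1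
  -- the rotated axes
  obtain ⟨g, hgN, hgt, hgfix⟩ := hT.fix_three t htS ht1
  have hgH : g ∈ H := mem_centralizer_singleton_iff.2 hgt.eq
  have hggN : g * g ∈ normalizer ((S : Subgroup G) : Set G) := mul_mem hgN hgN
  have hyodd : Odd (orderOf y) := hOmodd.of_dvd_nat (Subgroup.orderOf_dvd_natCard Om hy)
  have hE4 := fun {a : G} (haS : a ∈ (S : Subgroup G)) (haE : a ∈ E) (h1 : a ≠ 1) (h2 : a ≠ t) =>
    hT.four_cases hES hEne htE haE ht1 h1 h2
  -- `x` centralises `n y n⁻¹` iff `n⁻¹ x n` is in `E`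
  have hrot : ∀ n ∈ normalizer ((S : Subgroup G) : Set G), ∀ x ∈ (S : Subgroup G),
      n⁻¹ * x * n ∉ E → x * (n * y * n⁻¹) * x⁻¹ = (n * y * n⁻¹)⁻¹ := by
    intro n hn x hx hnE
    have hx' : n⁻¹ * x * n ∈ (S : Subgroup G) := (mem_normalizer_iff''.1 hn x).1 hx
    have h := (hdich _ hx').resolve_left fun h => hnE ⟨hx', mem_centralizer_singleton_iff.2 h.eq⟩
    calc x * (n * y * n⁻¹) * x⁻¹ = n * ((n⁻¹ * x * n) * y * (n⁻¹ * x * n)⁻¹) * n⁻¹ := by group
      _ = (n * y * n⁻¹)⁻¹ := by rw [h]; group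
  -- neither rotation fixes `s` in `E`
  have hsn : ∀ n ∈ normalizer ((S : Subgroup G) : Set G), Commute n t →
      (∀ x ∈ (S : Subgroup G), Commute n x → x ∈ zpowers t) → n⁻¹ * s * n ∉ E := by
    intro n hn hnt hnfix h
    set k := n⁻¹ * s * n with hk
    have hkS : k ∈ (S : Subgroup G) := hES h
    have hk1 : k ≠ 1 := fun e => hs1 (by
      calc s = n * k * n⁻¹ := by rw [hk]; group
        _ = 1 := by rw [e]; group)
    have hkt : k ≠ t := fun e => hst (by
      calc s = n * k * n⁻¹ := by rw [hk]; group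
        _ = t := by rw [e, hnt.eq, mul_inv_cancel_right])
    obtain ⟨a1, a2, a3, a4⟩ := hT.rot_not_mem htS hn hnt hnfix hkS hk1 hkt
    have e : n * k * n⁻¹ = s := by rw [hk]; group
    rw [e] at a1 a2 a3 a4
    rcases hE4 hkS h hk1 hkt s hsE with e' | e' | e' | e'
    exacts [a1 e', a2 e', a3 e', a4 e']
  have hw : ∀ c ∈ (S : Subgroup G), c ∉ E →
      ∃ w ∈ X, w ≠ 1 ∧ Odd (orderOf w) ∧ c * w * c⁻¹ = w⁻¹ ∧ s * w * s⁻¹ = w⁻¹ := by
    intro c hc hcE
    have hsome : g⁻¹ * c * g ∉ E ∨ (g * g)⁻¹ * c * (g * g) ∉ E := by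
      by_contra hno
      push Not at hno
      obtain ⟨h1, h2⟩ := hno
      set k := (g * g)⁻¹ * c * (g * g) with hk
      have hkS : k ∈ (S : Subgroup G) := hES h2
      have hgk : g * k * g⁻¹ = g⁻¹ * c * g := by rw [hk]; group
      have hk1 : k ≠ 1 := fun e => hcE (by
        have : c = 1 := by
          calc c = (g * g) * k * (g * g)⁻¹ := by rw [hk]; group
            _ = 1 := by rw [e]; group
        rw [this]; exact one_mem _)
      have hkt : k ≠ t := fun e => hcE (by
        have : c = t := by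
          calc c = (g * g) * k * (g * g)⁻¹ := by rw [hk]; group
            _ = t := by rw [e, (hgt.mul_left hgt).eq, mul_inv_cancel_right]
        rw [this]; exact htE)
      obtain ⟨a1, a2, a3, a4⟩ := hT.rot_not_mem htS hgN hgt hgfix hkS hk1 hkt
      rw [hgk] at a1 a2 a3 a4
      rcases hE4 hkS h2 hk1 hkt _ h1 with e' | e' | e' | e'
      exacts [a1 e', a2 e', a3 e', a4 e']
    obtain ⟨n, hnN, hnH, hns, hnc⟩ : ∃ n ∈ normalizer ((S : Subgroup G) : Set G),
        n ∈ H ∧ n⁻¹ * s * n ∉ E ∧ n⁻¹ * c * n ∉ E := by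
      rcases hsome with h | h
      · exact ⟨g, hgN, hgH, hsn g hgN hgt hgfix, h⟩
      · exact ⟨g * g, hggN, mul_mem hgH hgH,
          hsn _ hggN (hgt.mul_left hgt) (hT.rot_sq hgN hgfix), h⟩
    have hwO : n * y * n⁻¹ ∈ Om := conj_omegaCentre hnH hy
    exact ⟨n * y * n⁻¹, hcX fun b hb => omegaCentre_comm hwO hb.1,
      fun e => hy1 (conj_eq_one_iff.1 e), hOmodd.of_dvd_nat (Subgroup.orderOf_dvd_natCard Om hwO),
      hrot n hnN c hc hnc, hrot n hnN s hsS hns⟩
  have hlay : Cfsg.layer X = ⊥ := by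
    refine hT.no_component hSX hES hEne hsE hs1 (fun K hK x hx hxX hxK => ?_) hw
    haveI : (Y.subgroupOf X).Normal :=
      (normal_subgroupOf_iff_le_normalizer hYX).2 le_rfl
    have hYsol : Group.IsSolvable ↥(Y.subgroupOf X) := by
      refine Group.isSolvable_of_comm fun a b => Subtype.ext (Subtype.ext ?_)
      exact (omegaCentre_comm (r := r) (H := H) a.2.1 b.2.1).eq
    have hc := Components.commute_of_commutator_eq_bot
      (Components.component_commutator_solvable hK hYsol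
        (fun _ _ => le_normalizer_of_normal (mem_top _))) hxK
      (show (⟨y, hYX hyY⟩ : X) ∈ Y.subgroupOf X from hyY)
    exact ⟨hx, mem_centralizer_singleton_iff.2 (congrArg Subtype.val hc)⟩
  have hFX : (Cfsg.generalizedFittingSubgroup ↥H).map H.subtype ≤ X := fun x hx =>
    hcX fun b hb => gFit_commute_omega hb.1 hx
  refine hT.sylow_le_of_trivial_inverted htS ht1 hr hsS hs1 hst (hOmr.to_le inf_le_left)
    (fun a ha => (mem_centralizer_iff.1 ha.2 s hsE : Commute s a).symm) (fun a ha => hOmt a ha.1)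
    fun z hz hzY hzt => hT.eq_one_of_inverted_core htS ht1 hmax hr hF hSX hFX hlay hsS hz
      (hcX hzY) hzt

/-- **Case I.** If a core is not trivial the centraliser is not maximal. -/
theorem not_isCoatom_centralizer {t : G} (htS : t ∈ (S : Subgroup G)) (ht1 : t ≠ 1)
    (hne : Cfsg.oddCore ↥(centralizer ({t} : Set G)) ≠ ⊥) :
    ¬ IsCoatom (centralizer ({t} : Set G)) := by
  intro hmax
  refine hT.not_le_centralizer_coreAt htS ht1 hne ?_
  set H := centralizer ({t} : Set G) with hH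
  have hSH : (S : Subgroup G) ≤ H := hT.le_cent htS
  set D := Cfsg.oddCore ↥H with hD
  intro u hu
  set a : H := ⟨u, hSH hu⟩ with ha
  haveI hDs : Group.IsSolvable ↥D := isSolvable_oddCore
  -- `u` centralises `F(D)`
  have hfit : (Cfsg.fittingSubgroup ↥D).map D.subtype ≤ centralizer ({a} : Set H) := by
    rw [Components.fitting_eq_iSup_pCore, Subgroup.map_iSup]
    refine iSup_le fun q => ?_
    haveI := Fact.mk (Nat.prime_of_mem_primeFactors q.2)
    have hle : (Cfsg.pCore (q : ℕ) ↥D).map D.subtype ≤ Cfsg.pCore (q : ℕ) ↥H :=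
      Components.le_pCore inferInstance
        ((Components.isPGroup_pCore (q : ℕ)).map _)
    intro w hw
    refine mem_centralizer_singleton_iff.2 (Subtype.ext ?_)
    exact mem_centralizer_iff.1 (hT.sylow_le_centralizer_pCoreIn htS ht1 hmax q hu) _
      ⟨w, hle hw, rfl⟩
  -- so it centralises `D`
  set φ : MulAut ↥D := MulAut.conjNormal a with hφ
  have key : ∀ d : ↥D, φ d = d := by
    intro d
    have hFF : ∀ w ∈ Cfsg.fittingSubgroup ↥D, φ w = w := fun w hw => Subtype.ext (by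
      have h : (w : H) * a = a * w := mem_centralizer_singleton_iff.1 (hfit ⟨w, hw, rfl⟩)
      rw [hφ, MulAut.conjNormal_apply, ← h, mul_assoc, mul_inv_cancel, mul_one])
    set e := d⁻¹ * φ d with he
    have heC : e ∈ centralizer (Cfsg.fittingSubgroup ↥D : Set ↥D) := by
      refine mem_centralizer_iff.2 fun w hw => ?_
      have h := hFF (d * w * d⁻¹) (Normal.conj_mem inferInstance w hw d)
      rw [map_mul, map_mul, map_inv, hFF w hw] at h
      calc w * e = d⁻¹ * (d * w * d⁻¹) * φ d := by rw [he]; group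
        _ = d⁻¹ * (φ d * w * (φ d)⁻¹) * φ d := by rw [h]
        _ = e * w := by rw [he]; group
    have heF : φ e = e := hFF e (Cores.centralizer_fittingSubgroup_le heC)
    have hφ2 : φ (φ d) = d := Subtype.ext (by
      rw [hφ, MulAut.conjNormal_apply, MulAut.conjNormal_apply,
        show a * (a * (d : H) * a⁻¹) * a⁻¹ = (a * a) * (d : H) * (a * a)⁻¹ by group,
        show a * a = 1 from Subtype.ext (hT.sq u hu)]
      group)
    have hee : φ e = e⁻¹ := by rw [he, map_mul, map_inv, hφ2]; group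
    have h1 : e = 1 := by
      refine eq_one_of_odd_sq ((Cores.odd_card_oddCore (G := ↥H)).of_dvd_nat
        (orderOf_dvd_natCard e)) ?_
      rw [heF] at hee
      rw [mul_eq_one_iff_eq_inv]
      exact hee
    exact (inv_mul_eq_one.1 h1).symm
  refine mem_centralizer_iff.2 fun x hx => ?_
  obtain ⟨d, hd, rfl⟩ := hx
  have h := congrArg Subtype.val (key ⟨d, hd⟩)
  rw [hφ, MulAut.conjNormal_apply] at h
  exact (congrArg Subtype.val (mul_inv_eq_iff_eq_mul.1 h)).symm

end Three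

end Cfsg.Agent.H77.Walter
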