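import Cfsg.Agent.H77.Walter.SecZero
import Cfsg.Agent.H77.Walter.CaseOne
import Cfsg.Agent.H57.Walter.LayThree

/-!
# The cores step in rank three
-/

set_option autoImplicit false
set_option linter.unusedSectionVars false
set_option linter.style.haveILetI false

namespace Cfsg.Agent.H77.Walter

open Subgroup Cfsg.Agent

universe u

local instance fact_two_three : Fact (Nat.Prime 2) := ⟨Nat.prime_two⟩

/-- The cores of involution centralisers are trivial in rank three. -/
theorem coresStepThree (hd : H88.Walter.ShapeData.{u}) : H10.Walter.CoresStepThree.{u} := by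
  intro G _ _ hcfg hno hcomp _ h3 t ht
  by_contra hne
  obtain ⟨S, hT⟩ := exists_three hcfg hno hcomp h3
  obtain ⟨g, hg⟩ := H39.exists_conj_le_sylow (IsPGroup.of_card (n := 1)
    (by rw [Nat.card_zpowers, ht, pow_one]) : IsPGroup 2 ↥(zpowers t)) S
  set a := g * t * g⁻¹ with ha
  have haS : a ∈ (S : Subgroup G) := hg t (mem_zpowers t)
  have ha1 : a ≠ 1 := fun e => by
    rw [ha, conj_eq_one_iff] at e
    rw [e, orderOf_one] at ht
    omega
  have hne' : Cfsg.oddCore ↥(centralizer ({a} : Set G)) ≠ ⊥ := by
    intro e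
    refine hne ?_
    have h1 : H10.Walter.coreAt a = ⊥ := by
      rw [H10.Walter.coreAt, e, Subgroup.map_bot]
    refine (map_eq_bot_iff_of_injective _ (subtype_injective _)).1 ((eq_bot_iff_forall _).2 ?_)
    intro x hx
    have h2 := conj_mem_coreAt g hx
    rw [← ha, h1, mem_bot, conj_eq_one_iff] at h2
    exact h2
  exact H57.Walter.false_caseTwo_three hT hd haS ha1 (hT.not_isCoatom_centralizer haS ha1 hne')

end Cfsg.Agent.H77.Walter
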