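import Cfsg.Agent.H77.Walter.Three
import Cfsg.Agent.H77.GW.MemberBase
import Cfsg.Agent.H85.ElemEight.Local

/-!
# Walter's theorem, rank three: elementary facts
-/

set_option autoImplicit false
set_option linter.unusedSectionVars false
set_option linter.style.haveILetI false

namespace Cfsg.Agent.H77.Walter

open Subgroup Cfsg.Agent
open Cfsg.Agent.H10.Walter (Bar coreAt)
open Cfsg.Agent.Components (pCoreIn)

universe u

variable {G : Type u} [Group G] [Finite G] {S : Sylow 2 G}

theorem conj_mem_coreAt (g : G) {a x : G} (hx : x ∈ coreAt a) :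
    g * x * g⁻¹ ∈ coreAt (g * a * g⁻¹) :=
  H85.ElemEight.conj_coreAt g hx

theorem odd_card_coreAt (a : G) : Odd (Nat.card (coreAt a)) :=
  H85.ElemEight.odd_card_coreAt a

theorem map_conj_centralizer (g a : G) :
    (centralizer ({a} : Set G)).map (MulAut.conj g).toMonoidHom =
      centralizer ({g * a * g⁻¹} : Set G) := by
  ext y
  simp only [Subgroup.mem_map, mem_centralizer_singleton_iff, MulEquiv.coe_toMonoidHom,
    MulAut.conj_apply]
  constructor
  · rintro ⟨z, hz, rfl⟩
    calc g * z * g⁻¹ * (g * a * g⁻¹) = g * (z * a) * g⁻¹ := by group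
      _ = g * (a * z) * g⁻¹ := by rw [hz]
      _ = g * a * g⁻¹ * (g * z * g⁻¹) := by group
  · intro hy
    refine ⟨g⁻¹ * y * g, ?_, by group⟩
    calc g⁻¹ * y * g * a = g⁻¹ * (y * (g * a * g⁻¹)) * g := by group
      _ = g⁻¹ * (g * a * g⁻¹ * y) * g := by rw [hy]
      _ = a * (g⁻¹ * y * g) := by group

theorem conj_mem_pCoreIn_centralizer (g : G) {a x : G} {r : ℕ}
    (hx : x ∈ pCoreIn r (centralizer ({a} : Set G))) :
    g * x * g⁻¹ ∈ pCoreIn r (centralizer ({g * a * g⁻¹} : Set G)) := by
  rw [← map_conj_centralizer, ← H77.GW.pCoreIn_map_equiv]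
  exact ⟨x, hx, rfl⟩

namespace Three

variable (hT : Three S)
include hT

theorem comm {x y : G} (hx : x ∈ (S : Subgroup G)) (hy : y ∈ (S : Subgroup G)) : Commute x y :=
  hT.cfg.absyl.comm S.isPGroup' hx hy

theorem inv_eq {x : G} (hx : x ∈ (S : Subgroup G)) : x⁻¹ = x :=
  inv_eq_of_mul_eq_one_right (hT.sq x hx)

theorem two {x : G} (hx : x ∈ (S : Subgroup G)) (hx1 : x ≠ 1) : orderOf x = 2 := by
  haveI : Fact (Nat.Prime 2) := ⟨Nat.prime_two⟩
  exact orderOf_eq_prime (by rw [pow_two, hT.sq x hx]) hx1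

theorem le_cent {x : G} (hx : x ∈ (S : Subgroup G)) :
    (S : Subgroup G) ≤ centralizer ({x} : Set G) :=
  fun _ hy => mem_centralizer_singleton_iff.2 (hT.comm hy hx).eq

/-- `S` has an element outside every set of at most seven elements. -/
theorem exists_not_mem (F : Finset G) (hF : F.card < 8) : ∃ s ∈ (S : Subgroup G), s ∉ F := by
  classical
  by_contra hno
  push Not at hno
  have h := Nat.card_le_card_of_injective
    (fun s : (S : Subgroup G) => (⟨s, hno s s.2⟩ : F)) fun a b e => Subtype.ext (congrArg (·.1) e)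
  rw [hT.card_eight, Nat.card_eq_fintype_card, Fintype.card_coe] at h
  omega

/-- A proper subgroup of `S` with two independent elements consists of their four group. -/
theorem four_cases {E : Subgroup G} (hE : E ≤ (S : Subgroup G)) (hne : E ≠ (S : Subgroup G))
    {t s : G} (ht : t ∈ E) (hs : s ∈ E) (ht1 : t ≠ 1) (hs1 : s ≠ 1) (hst : s ≠ t) :
    ∀ e ∈ E, e = 1 ∨ e = t ∨ e = s ∨ e = t * s := by
  classical
  intro e he
  by_contra hc
  push Not at hc
  obtain ⟨he1, het, hes, hets⟩ := hc
  have hts1 : t * s ≠ 1 := fun h => hst (by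
    rw [← inv_eq_of_mul_eq_one_right h, hT.inv_eq (hE ht)])
  have htst : t * s ≠ t := fun h => hs1 (mul_eq_left.1 h)
  have htss : t * s ≠ s := fun h => ht1 (mul_eq_right.1 h)
  have hsub : ({1, t, s, t * s, e} : Finset G) ⊆ (E : Set G).toFinite.toFinset := by
    intro y hy
    simp only [Finset.mem_insert, Finset.mem_singleton] at hy
    simp only [Set.Finite.mem_toFinset, SetLike.mem_coe]
    rcases hy with rfl | rfl | rfl | rfl | rfl
    exacts [one_mem _, ht, hs, mul_mem ht hs, he]
  have h5 : ({1, t, s, t * s, e} : Finset G).card = 5 := by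
    simp [Ne.symm ht1, Ne.symm hs1, Ne.symm hts1, Ne.symm he1, Ne.symm hst, Ne.symm htst,
      Ne.symm htss, Ne.symm het, Ne.symm hes, Ne.symm hets]
  have h6 := Finset.card_le_card hsub
  rw [h5, ← Nat.card_eq_card_finite_toFinset] at h6
  simp only [SetLike.coe_sort_coe] at h6
  have hd : Nat.card E ∣ 8 := hT.card_eight ▸ card_dvd_of_le hE
  have hle := Nat.le_of_dvd (by norm_num) hd
  refine hne (eq_of_le_of_card_ge hE ?_)
  rw [hT.card_eight]
  interval_cases h : Nat.card E <;> omega

/-- A proper subgroup of `S` has at most four elements. -/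
theorem card_le_four {E : Subgroup G} (hE : E ≤ (S : Subgroup G)) (hne : E ≠ (S : Subgroup G)) :
    Nat.card E ≤ 4 := by
  have hd : Nat.card E ∣ 8 := hT.card_eight ▸ card_dvd_of_le hE
  have hle := Nat.le_of_dvd (by norm_num) hd
  have h8 : Nat.card E ≠ 8 := fun h => hne (eq_of_le_of_card_ge hE (by rw [hT.card_eight, h]))
  interval_cases h : Nat.card E <;> omega

end Three

/-- An element of a group generated by an involution is `1` or the involution. -/
theorem eq_one_or_of_mem_zpowers {M : Type*} [Group M] {z x : M} (hz : z * z = 1)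
    (hx : x ∈ zpowers z) : x = 1 ∨ x = z := by
  obtain ⟨i, rfl⟩ := mem_zpowers_iff.1 hx
  have h2 : z ^ (2 : ℤ) = 1 := by rw [zpow_two]; exact hz
  rcases Int.even_or_odd i with ⟨j, rfl⟩ | ⟨j, rfl⟩
  · exact Or.inl (by rw [← two_mul, zpow_mul, h2, one_zpow])
  · exact Or.inr (by rw [zpow_add_one, zpow_mul, h2, one_zpow, one_mul])

/-- An involution-power of odd order is trivial. -/
theorem eq_one_of_odd_sq {M : Type*} [Group M] {x : M} (hx : Odd (orderOf x)) (h : x * x = 1) :
    x = 1 :=
  orderOf_eq_one_iff.1 (Nat.eq_one_of_dvd_coprimes (Nat.coprime_two_left.2 hx)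
    (orderOf_dvd_of_pow_eq_one (by rw [pow_two, h])) dvd_rfl)

end Cfsg.Agent.H77.Walter
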