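import Cfsg.Agent.H10.Walter.Structure
import Cfsg.Agent.S0205

/-!
# Components in groups with abelian Sylow 2-subgroups and arbitrary odd core

A component `K` maps onto a component modulo the odd core, so a 2-element acts on it as an element
of `T ∩ K`; and `T ∩ K` has order at least four when `T` has exponent two.
-/

set_option autoImplicit false
set_option linter.unusedSectionVars false
set_option linter.style.haveILetI false

namespace Cfsg.Agent.H77.Walter

open Subgroup Cfsg.Agent
open Cfsg.Agent.H10.Walter (AbSyl)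
open scoped commutatorElement

universe u

variable {X : Type u} [Group X] [Finite X]

local instance fact_two_aux : Fact (Nat.Prime 2) := ⟨Nat.prime_two⟩

theorem isSolvable_oddCore : Group.IsSolvable ↥(Cfsg.oddCore X) :=
  Cfsg.Agent.S0205.result Cores.odd_card_oddCore

theorem component_commutes_oddCore {K : Subgroup X} (hK : Cfsg.IsComponent K) :
    ⁅K, Cfsg.oddCore X⁆ = ⊥ :=
  Components.component_commutator_solvable hK isSolvable_oddCore (fun _ _ => le_normalizer_of_normal (Subgroup.mem_top _))

/-- The image of a component modulo the odd core is a component. -/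
theorem component_map_oddCore {K : Subgroup X} (hK : Cfsg.IsComponent K) :
    Cfsg.IsComponent (K.map (QuotientGroup.mk' (Cfsg.oddCore X))) := by
  set f := QuotientGroup.mk' (Cfsg.oddCore X)
  refine ⟨hK.1.map (QuotientGroup.mk'_surjective _), ?_⟩
  haveI : Nontrivial ↥(K.map f) := by
    rw [Subgroup.nontrivial_iff_ne_bot]
    intro e
    rw [Subgroup.map_eq_bot_iff, QuotientGroup.ker_mk'] at e
    exact Components.qsSub_not_le_of_isSolvable hK.2 isSolvable_oddCore e
  exact Components.qs_of_surjective hK.2 (f.subgroupMap K) (f.subgroupMap_surjective K)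

/-- What centralises a component modulo the odd core centralises it. -/
theorem mem_centralizer_of_map {K : Subgroup X} (hK : Cfsg.IsComponent K) {c : X}
    (hc : QuotientGroup.mk' (Cfsg.oddCore X) c ∈
      centralizer (K.map (QuotientGroup.mk' (Cfsg.oddCore X)) : Set (X ⧸ Cfsg.oddCore X))) :
    c ∈ centralizer (K : Set X) := by
  set R := Cfsg.oddCore X
  have h1 : ⁅K, zpowers c⁆ ≤ R := by
    rw [commutator_le]
    intro k hk d hd
    obtain ⟨i, rfl⟩ := mem_zpowers_iff.1 hd
    rw [← QuotientGroup.eq_one_iff]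
    show QuotientGroup.mk' R ⁅k, c ^ i⁆ = 1
    rw [map_commutatorElement, commutatorElement_eq_one_iff_mul_comm, map_zpow]
    exact ((show Commute (QuotientGroup.mk' R k) (QuotientGroup.mk' R c) from
      mem_centralizer_iff.1 hc _ (mem_map_of_mem _ hk)).zpow_right i).eq
  have hRK : ⁅R, K⁆ = ⊥ := by rw [Subgroup.commutator_comm]; exact component_commutes_oddCore hK
  have h2 : ⁅⁅K, zpowers c⁆, K⁆ = ⊥ := le_bot_iff.1 ((commutator_mono h1 le_rfl).trans hRK.le)
  have h3 : ⁅⁅zpowers c, K⁆, K⁆ = ⊥ := by rwa [Subgroup.commutator_comm (zpowers c) K]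
  have h4 := commutator_commutator_eq_bot_of_rotate h2 h3
  rw [Components.component_perfect hK, commutator_eq_bot_iff_le_centralizer] at h4
  refine mem_centralizer_iff.2 fun k hk => ?_
  exact ((mem_centralizer_iff.1 (h4 hk)) c (mem_zpowers c)).symm

/-- A 2-element acts on a component as an element of `T ∩ K`. -/
theorem component_inner (h : AbSyl X) {K : Subgroup X} (hK : Cfsg.IsComponent K) (T : Sylow 2 X)
    {x : X} (hx : x ∈ (T : Subgroup X)) :
    ∃ g ∈ (T : Subgroup X) ⊓ K, x * g⁻¹ ∈ centralizer (K : Set X) := by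
  set f := QuotientGroup.mk' (Cfsg.oddCore X) with hf
  have hsurj : Function.Surjective f := QuotientGroup.mk'_surjective _
  obtain ⟨gb, ⟨hgT, hgK⟩, hg⟩ := H10.Walter.exists_inner (h.surj f hsurj)
    Cores.pPrimeCore_quotient_pPrimeCore (component_map_oddCore hK) (T.mapSurjective hsurj)
    (s := f x) (mem_map_of_mem f hx)
  obtain ⟨g, hg0, rfl⟩ : ∃ g ∈ (T : Subgroup X), f g = gb := hgT
  obtain ⟨k, hk, hkg⟩ : ∃ k ∈ K, f k = f g := hgK
  -- `g` is `k` times an element of the core, which commutes with `k`
  set d := k⁻¹ * g with hd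
  have hdR : d ∈ Cfsg.oddCore X := by
    rw [← QuotientGroup.eq_one_iff]
    show f d = 1
    rw [hd, map_mul, map_inv, hkg, inv_mul_cancel]
  have hkd : Commute k d :=
    Components.commute_of_commutator_eq_bot (component_commutes_oddCore hK) hk hdR
  have hge : g = k * d := by rw [hd, mul_inv_cancel_left]
  have hm : g ^ orderOf d ∈ K := by
    rw [hge, hkd.mul_pow, pow_orderOf_eq_one, mul_one]
    exact pow_mem hk _
  have hcop : (orderOf g).Coprime (orderOf d) := by
    obtain ⟨n, hn⟩ := T.isPGroup' ⟨g, hg0⟩
    have hodd : Odd (orderOf d) :=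
      (Cores.odd_card_oddCore (G := X)).of_dvd_nat (Subgroup.orderOf_dvd_natCard _ hdR)
    exact Nat.Coprime.coprime_dvd_left
      (orderOf_dvd_of_pow_eq_one (by simpa using congrArg Subtype.val hn))
      (Nat.Coprime.pow_left n (Nat.coprime_two_left.2 hodd))
  have hgK' : g ∈ K := by
    obtain ⟨m, hme⟩ := exists_pow_eq_self_of_coprime hcop.symm
    exact hme ▸ pow_mem hm m
  refine ⟨g, ⟨hg0, hgK'⟩, mem_centralizer_of_map hK ?_⟩
  rw [← hf, map_mul, map_inv]
  exact hg

/-- In exponent two the Sylow 2-subgroup meets every component in at least four elements. -/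
theorem four_le_sylow_inf {K : Subgroup X} (hK : Cfsg.IsComponent K) (T : Sylow 2 X) :
    4 ≤ Nat.card ↥((T : Subgroup X) ⊓ K : Subgroup X) := by
  obtain ⟨P, hP⟩ := Cfsg.Agent.S0542.result 2 K hK.1 T
  have hcard : Nat.card (P : Subgroup K) = Nat.card ↥((T : Subgroup X) ⊓ K : Subgroup X) := by
    rw [show (P : Subgroup K) = ((T : Subgroup X) ⊓ K).subgroupOf K by
        rw [inf_subgroupOf_right]; exact hP,
      Nat.card_congr (subgroupOfEquivOfLe inf_le_right).toEquiv]
  rw [← hcard]
  haveI : Group.IsPerfect ↥K := hK.2.1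
  have heven : 2 ∣ Nat.card K := by
    by_contra he
    exact Components.qsSub_not_le_of_isSolvable hK.2
      (Cfsg.Agent.S0205.result (Nat.odd_iff.2 (Nat.two_dvd_ne_zero.1 he))) le_rfl
  obtain ⟨n, hn⟩ := IsPGroup.iff_card.1 P.isPGroup'
  by_contra hlt
  have hn1 : n ≤ 1 := by
    by_contra hn2
    have := Nat.pow_le_pow_right (show 1 ≤ 2 by norm_num) (not_le.1 hn2)
    omega
  have hPne : (P : Subgroup K) ≠ ⊥ := P.ne_bot_of_dvd_card heven
  have hn' : n = 1 := by
    interval_cases n
    · exact absurd (Subgroup.eq_bot_of_card_eq _ (by simpa using hn)) hPne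
    · rfl
  subst hn'
  rw [pow_one] at hn
  haveI : IsCyclic (P : Subgroup K) := isCyclic_of_prime_card hn
  have hmin : (Nat.card K).minFac = 2 := (Nat.minFac_eq_two_iff _).2 heven
  have hc := IsCyclic.normalizer_le_centralizer hmin (P := P) inferInstance
  have htriv : ∀ x : K, MonoidHom.transferSylow P hc x = 1 := by
    intro x
    have hx : x ∈ commutator K := by rw [Group.IsPerfect.commutator_eq_top]; exact mem_top x
    have hle : commutator K ≤ (MonoidHom.transferSylow P hc).ker := by
      rw [_root_.commutator_def, Subgroup.commutator_le]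
      intro a _ b _
      rw [MonoidHom.mem_ker, map_commutatorElement, commutatorElement_eq_one_iff_mul_comm]
      exact (IsCyclic.isMulCommutative (α := (P : Subgroup K))).is_comm.comm _ _
    exact hle hx
  have hcomp := MonoidHom.ker_transferSylow_isComplement' P hc
  rw [show (MonoidHom.transferSylow P hc).ker = ⊤ from
    eq_top_iff.2 fun x _ => MonoidHom.mem_ker.2 (htriv x)] at hcomp
  exact hPne (hcomp.symm.disjoint.eq_bot_of_le le_top)

end Cfsg.Agent.H77.Walter
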