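import Cfsg.Agent.H77.Walter.Basic
import Cfsg.Agent.H77.Walter.CompAux
import Cfsg.Agent.H29.Walter.PslAction
import Cfsg.Agent.H70.Balanced.Criterion

/-!
# Walter's theorem, rank three: `S` does not centralise a non-trivial core

If `S` centralises `O(C(t))` it centralises all the cores; in `C(b) / O(C(b))` the image of
`O(C(a))` fixes a four group of the component and is normalised by a centraliser of one of its
involutions, so is trivial; all cores coincide and their normaliser is strongly embedded.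
-/

set_option autoImplicit false
set_option linter.unusedSectionVars false
set_option linter.style.haveILetI false

namespace Cfsg.Agent.H77.Walter

open Subgroup Cfsg.Agent
open Cfsg.Agent.H10.Walter (Bar coreAt IsOddPSL)
open Cfsg.Agent.Components (pCoreIn)

universe u

variable {G : Type u} [Group G] [Finite G] {S : Sylow 2 G}

local instance fact_two_core : Fact (Nat.Prime 2) := ⟨Nat.prime_two⟩

namespace Three

variable (hT : Three S)
include hT

theorem toBar_inj {b x y : G} (hxS : x ∈ (S : Subgroup G)) (hyS : y ∈ (S : Subgroup G))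
    {hx : x ∈ centralizer ({b} : Set G)} {hy : y ∈ centralizer ({b} : Set G)}
    (e : toBar (centralizer ({b} : Set G)) ⟨x, hx⟩ = toBar _ ⟨y, hy⟩) : x = y := by
  have h : (⟨x, hx⟩ : ↥(centralizer ({b} : Set G)))⁻¹ * ⟨y, hy⟩ ∈ Cfsg.oddCore _ := by
    rw [← QuotientGroup.eq_one_iff]
    show toBar (centralizer ({b} : Set G)) _ = 1
    simp only [toBar] at e ⊢
    rw [map_mul, map_inv, e, inv_mul_cancel]
  have hodd : Odd (orderOf (x⁻¹ * y)) := by
    have h1 := (Cores.odd_card_oddCore (G := ↥(centralizer ({b} : Set G)))).of_dvd_nat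
      (Subgroup.orderOf_dvd_natCard _ h)
    rwa [← Subgroup.orderOf_coe] at h1
  exact inv_mul_eq_one.1 (eq_one_of_odd_sq hodd (hT.sq _ (mul_mem (inv_mem hxS) hyS)))

/-- The component of `C(b)` modulo the core is normal. -/
theorem comp_normal {b : G} {hb : b ∈ centralizer ({b} : Set G)}
    {L : Subgroup (Bar (centralizer ({b} : Set G)))} (hL : Cfsg.IsComponent L)
    (hCL : centralizer (L : Set (Bar (centralizer ({b} : Set G)))) =
      zpowers (toBar (centralizer ({b} : Set G)) ⟨b, hb⟩)) : L.Normal := by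
  refine ⟨fun x hx g => ?_⟩
  set L' := L.map (MulAut.conj g).toMonoidHom with hL'
  have hc : Cfsg.IsComponent L' := Components.component_conj hL g
  have hxL' : g * x * g⁻¹ ∈ L' := ⟨x, hx, rfl⟩
  by_cases e : L' = L
  · exact e ▸ hxL'
  · exfalso
    have hle : L' ≤ zpowers (toBar (centralizer ({b} : Set G)) ⟨b, hb⟩) := hCL ▸
      commutator_eq_bot_iff_le_centralizer.1 (Components.components_commute hc hL e)
    exact Components.qsSub_not_le_of_isSolvable hc.2 inferInstance hle

/-- An element of `S` modulo the core is a power of `b̄` times an element of the component. -/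
theorem exists_split {b : G} (hbS : b ∈ (S : Subgroup G)) (hb : b ∈ centralizer ({b} : Set G))
    {L : Subgroup (Bar (centralizer ({b} : Set G)))}
    (hCL : centralizer (L : Set (Bar (centralizer ({b} : Set G)))) =
      zpowers (toBar (centralizer ({b} : Set G)) ⟨b, hb⟩))
    (hF : Cfsg.generalizedFittingSubgroup (Bar (centralizer ({b} : Set G))) =
        zpowers (toBar (centralizer ({b} : Set G)) ⟨b, hb⟩) ⊔ L)
    {x : G} (hx : x ∈ (S : Subgroup G)) :
    ∃ v ∈ L, toBar (centralizer ({b} : Set G)) ⟨x, hT.le_cent hbS hx⟩ = v ∨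
      toBar (centralizer ({b} : Set G)) ⟨x, hT.le_cent hbS hx⟩ =
        toBar (centralizer ({b} : Set G)) ⟨b, hb⟩ * v := by
  let C := centralizer ({b} : Set G)
  have hmem : toBar C ⟨x, hT.le_cent hbS hx⟩ ∈ zpowers (toBar C ⟨b, hb⟩) ⊔ L := by
    rw [← hF]
    exact H10.Walter.sylow_le_genFitting (hT.cfg.absyl_bar C) (H10.Walter.oddCore_bar C)
      ((S.subtype (hT.le_cent hbS)).mapSurjective (QuotientGroup.mk'_surjective _))
      (mem_map_of_mem _ (show (⟨x, hT.le_cent hbS hx⟩ : ↥C) ∈ ((S : Subgroup G).subgroupOf C) from hx))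
  have hn : zpowers (toBar C ⟨b, hb⟩) ≤ normalizer (L : Set (Bar C)) :=
    hCL ▸ centralizer_le_normalizer _
  rw [← SetLike.mem_coe, coe_mul_of_left_le_normalizer_right _ _ hn] at hmem
  obtain ⟨c, hc, v, hv, e⟩ := hmem
  have hsq : toBar C ⟨b, hb⟩ * toBar C ⟨b, hb⟩ = 1 := by
    rw [toBar, ← map_mul, show (⟨b, hb⟩ : ↥C) * ⟨b, hb⟩ = 1 from Subtype.ext (hT.sq b hbS),
      map_one]
  refine ⟨v, hv, ?_⟩
  rcases eq_one_or_of_mem_zpowers hsq hc with rfl | rfl
  · exact Or.inl (by rw [← e]; exact one_mul v)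
  · exact Or.inr e.symm

/-- If `S` centralises all cores, the image of `O(C(a))` in `C(b)` modulo the core is trivial. -/
theorem coreAt_le_of_centralized {a b : G} (haS : a ∈ (S : Subgroup G))
    (hbS : b ∈ (S : Subgroup G)) (ha1 : a ≠ 1) (hb1 : b ≠ 1)
    (hcent : (S : Subgroup G) ≤ centralizer (coreAt a : Set G)) : coreAt a ≤ coreAt b := by
  classical
  by_cases hab : a = b
  · rw [hab]
  set C := centralizer ({b} : Set G) with hC
  have hb : b ∈ C := mem_centralizer_singleton_iff.2 rfl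
  obtain ⟨L, hL, hLP, hCL, hF⟩ := hT.bar b (hT.two hbS hb1) hb
  haveI := hT.comp_normal hL hCL
  have hSC : (S : Subgroup G) ≤ C := hT.le_cent hbS
  set f : ↥C →* Bar C := QuotientGroup.mk' (Cfsg.oddCore ↥C) with hf
  set bb := f ⟨b, hb⟩ with hbb
  have hbcomm : ∀ z : Bar C, Commute bb z := by
    intro z
    obtain ⟨z, rfl⟩ := QuotientGroup.mk'_surjective _ z
    exact (show Commute (⟨b, hb⟩ : ↥C) z from
      (Subtype.ext (mem_centralizer_singleton_iff.1 z.2).symm)).map f
  have hScomm : ∀ {x y : G} (hx : x ∈ (S : Subgroup G)) (hy : y ∈ (S : Subgroup G)),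
      Commute (f ⟨x, hSC hx⟩) (f ⟨y, hSC hy⟩) := fun hx hy =>
    (show Commute (⟨_, hSC hx⟩ : ↥C) ⟨_, hSC hy⟩ from Subtype.ext (hT.comm hx hy).eq).map f
  -- the part of `x ∈ S` in `L`
  have hpart : ∀ {x : G} (hx : x ∈ (S : Subgroup G)), ∃ v ∈ L,
      (f ⟨x, hSC hx⟩ = v ∨ f ⟨x, hSC hx⟩ = bb * v) ∧ v * v = 1 ∧
      ∀ {y : G} (hy : y ∈ (S : Subgroup G)), Commute (f ⟨y, hSC hy⟩) v := by
    intro x hx
    obtain ⟨v, hv, e⟩ := hT.exists_split hbS hb hCL hF hx
    have hbsq : bb * bb = 1 := by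
      rw [hbb, ← map_mul, show (⟨b, hb⟩ : ↥C) * ⟨b, hb⟩ = 1 from Subtype.ext (hT.sq b hbS), map_one]
    have hve : v = f ⟨x, hSC hx⟩ ∨ v = bb * f ⟨x, hSC hx⟩ := by
      rcases e with e | e
      · exact Or.inl e.symm
      · refine Or.inr ?_
        show v = bb * toBar C ⟨x, hSC hx⟩
        rw [e]
        show v = bb * (bb * v)
        rw [← mul_assoc, hbsq, one_mul]
    refine ⟨v, hv, e, ?_, fun hy => ?_⟩
    · have hxx : f ⟨x, hSC hx⟩ * f ⟨x, hSC hx⟩ = 1 := by
        rw [← map_mul, show (⟨x, hSC hx⟩ : ↥C) * ⟨x, hSC hx⟩ = 1 from Subtype.ext (hT.sq x hx),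
          map_one]
      rcases hve with h | h <;> rw [h]
      · exact hxx
      · rw [(hbcomm _).symm.mul_mul_mul_comm, hbsq, hxx, one_mul]
    · rcases hve with h | h <;> rw [h]
      · exact hScomm hy hx
      · exact (hbcomm _).symm.mul_right (hScomm hy hx)
  obtain ⟨v, hvL, hv, hvsq, hvS⟩ := hpart haS
  have hv1 : v ≠ 1 := by
    rintro rfl
    rcases hv with e | e
    · exact ha1 (hT.toBar_inj (b := b) haS (one_mem _) (hy := one_mem C)
        (e.trans (map_one f).symm))
    · exact hab (hT.toBar_inj (b := b) haS hbS (e.trans (mul_one _)))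
  obtain ⟨s, hsS, hs⟩ := hT.exists_not_mem {1, b, a, b * a} (by
    refine lt_of_le_of_lt Finset.card_le_four ?_; norm_num)
  simp only [Finset.mem_insert, Finset.mem_singleton, not_or] at hs
  obtain ⟨hs1, hsb, hsa, hsba⟩ := hs
  obtain ⟨w, hwL, hw, hwsq, hwS⟩ := hpart hsS
  have hw1 : w ≠ 1 := by
    rintro rfl
    rcases hw with e | e
    · exact hs1 (hT.toBar_inj (b := b) hsS (one_mem _) (hy := one_mem C)
        (e.trans (map_one f).symm))
    · exact hsb (hT.toBar_inj (b := b) hsS hbS (e.trans (mul_one _)))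
  have hwv : w ≠ v := by
    rintro rfl
    have hbsq : bb * bb = 1 := by
      rw [hbb, ← map_mul, show (⟨b, hb⟩ : ↥C) * ⟨b, hb⟩ = 1 from Subtype.ext (hT.sq b hbS), map_one]
    have hcase : f ⟨s, hSC hsS⟩ = f ⟨a, hSC haS⟩ ∨
        f ⟨s, hSC hsS⟩ = f ⟨b * a, mul_mem hb (hSC haS)⟩ := by
      rw [show (⟨b * a, mul_mem hb (hSC haS)⟩ : ↥C) = ⟨b, hb⟩ * ⟨a, hSC haS⟩ from rfl, map_mul]
      rcases hv with e | e <;> rcases hw with e' | e' <;> rw [e, e']
      · exact Or.inl rfl
      · exact Or.inr rfl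
      · exact Or.inr (by rw [← mul_assoc, ← hbb, hbsq, one_mul])
      · exact Or.inl rfl
    rcases hcase with e | e
    · exact hsa (hT.toBar_inj (b := b) hsS haS e)
    · exact hsba (hT.toBar_inj (b := b) hsS (mul_mem hbS haS) e)
  -- the image of `O(C(a))`
  have hxC : coreAt a ≤ C := fun x hx => mem_centralizer_singleton_iff.2
    (mem_centralizer_iff.1 (hcent hbS) x hx)
  set Y := ((coreAt a).subgroupOf C).map f with hY
  have hYodd : Odd (Nat.card Y) := by
    refine (odd_card_coreAt a).of_dvd_nat ?_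
    rw [← Nat.card_congr (subgroupOfEquivOfLe hxC).toEquiv]
    exact card_map_dvd _ _
  have hYS : ∀ y ∈ Y, ∀ {z : G} (hz : z ∈ (S : Subgroup G)), Commute y (f ⟨z, hSC hz⟩) := by
    rintro _ ⟨x, hx, rfl⟩ z hz
    exact (show Commute x ⟨z, hSC hz⟩ from
      Subtype.ext (mem_centralizer_iff.1 (hcent hz) x hx)).map f
  have hYpart : ∀ y ∈ Y, ∀ {x : G} (hx : x ∈ (S : Subgroup G)) {u : Bar C},
      (f ⟨x, hSC hx⟩ = u ∨ f ⟨x, hSC hx⟩ = bb * u) → Commute y u := by
    intro y hy x hx u hu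
    have h1 := hYS y hy hx
    rcases hu with e | e
    · exact e ▸ h1
    · have h2 : Commute y (bb⁻¹ * (bb * u)) := ((hbcomm y).symm.inv_right).mul_right (e ▸ h1)
      rwa [inv_mul_cancel_left] at h2
  have hnorm : ∀ c ∈ L, Commute c v → c ∈ normalizer (Y : Set (Bar C)) := by
    intro c _ hcv
    have hca : Commute c (f ⟨a, hSC haS⟩) := by
      rcases hv with e | e <;> rw [e]
      · exact hcv
      · exact (hbcomm c).symm.mul_right hcv
    set aC : ↥C := ⟨a, hSC haS⟩ with haC
    have hzp : IsPGroup 2 (zpowers aC) := IsPGroup.of_card (n := 1) (by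
      rw [Nat.card_zpowers, Subgroup.orderOf_mk, hT.two haS ha1, pow_one])
    have hcN : c ∈ normalizer (((zpowers aC).map f : Subgroup (Bar C)) : Set (Bar C)) := by
      rw [MonoidHom.map_zpowers]
      refine centralizer_le_normalizer _ (mem_centralizer_iff.2 ?_)
      rintro _ ⟨i, rfl⟩
      exact (hca.zpow_right i).symm.eq
    rw [hf, ← Components.map_normalizer_of_coprime (Cfsg.oddCore ↥C)
      Cores.coprime_card_pPrimeCore hzp] at hcN
    obtain ⟨c', hc', rfl⟩ := hcN
    have hc'a : Commute (c' : G) a := by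
      have h1 := (mem_normalizer_iff.1 hc' aC).1 (mem_zpowers _)
      rcases eq_one_or_of_mem_zpowers (z := aC) (Subtype.ext (hT.sq a haS)) h1 with e | e
      · exact absurd (congrArg Subtype.val (conj_eq_one_iff.1 e)) ha1
      · exact congrArg Subtype.val (mul_inv_eq_iff_eq_mul.1 e)
    have hcore : ∀ x : ↥C, (x : G) ∈ coreAt a → (c' : G) * x * (c' : G)⁻¹ ∈ coreAt a := by
      intro x hx
      have := conj_mem_coreAt (c' : G) hx
      rwa [hc'a.eq, mul_inv_cancel_right] at this
    refine Coprime.mem_normalizer_of_map_conj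
      (eq_of_le_of_card_ge ?_ (by rw [Coprime.card_map_conj]))
    rintro _ ⟨_, ⟨x, hx, rfl⟩, rfl⟩
    exact ⟨c' * x * c'⁻¹, hcore x hx, by simp [map_mul, map_inv]; rfl⟩
  have hYL := H29.Walter.le_centralizer_of_four hLP hvL hwL hv1 hvsq hw1 hwsq
    (by
      rcases hw with e | e
      · exact (e ▸ hvS hsS).symm
      · have h := hvS hsS
        rw [e] at h
        have h2 : Commute (bb⁻¹ * (bb * w)) v := ((hbcomm v).inv_left).mul_left h
        rw [inv_mul_cancel_left] at h2
        exact h2.symm)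
    (Ne.symm hwv) hYodd (fun y hy => hYpart y hy haS hv) (fun y hy => hYpart y hy hsS hw) hnorm
  rw [hCL] at hYL
  intro x hx
  refine ⟨⟨x, hxC hx⟩, ?_, rfl⟩
  have hfx : f ⟨x, hxC hx⟩ ∈ Y := mem_map_of_mem f (show (⟨x, hxC hx⟩ : ↥C) ∈ _ from hx)
  rw [SetLike.mem_coe, ← QuotientGroup.eq_one_iff]
  show f ⟨x, hxC hx⟩ = 1
  refine eq_one_of_odd_sq (hYodd.of_dvd_nat (Subgroup.orderOf_dvd_natCard Y hfx)) ?_
  have hbsq : bb * bb = 1 := by
    rw [hbb, ← map_mul, show (⟨b, hb⟩ : ↥C) * ⟨b, hb⟩ = 1 from Subtype.ext (hT.sq b hbS), map_one]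
  rcases eq_one_or_of_mem_zpowers hbsq (hYL hfx) with e | e <;> rw [e]
  · exact one_mul 1
  · exact hbsq

/-- **L0.** `S` does not centralise a non-trivial core. -/
theorem not_le_centralizer_coreAt {t : G} (htS : t ∈ (S : Subgroup G)) (ht1 : t ≠ 1)
    (hne : Cfsg.oddCore ↥(centralizer ({t} : Set G)) ≠ ⊥) :
    ¬ (S : Subgroup G) ≤ centralizer (coreAt t : Set G) := by
  intro hcent
  have hall : ∀ a ∈ (S : Subgroup G), a ≠ 1 →
      (S : Subgroup G) ≤ centralizer (coreAt a : Set G) := by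
    intro a ha ha1 s hs
    obtain ⟨g, hg, hga⟩ := hT.trans t htS a ha ht1 ha1
    refine mem_centralizer_iff.2 fun x hx => ?_
    have hx' : g⁻¹ * x * g ∈ coreAt t := by
      have h := conj_mem_coreAt g⁻¹ hx
      rwa [inv_inv, ← hga, show g⁻¹ * (g * t * g⁻¹) * g = t by group] at h
    have h := mem_centralizer_iff.1 (hcent ((mem_normalizer_iff''.1 hg s).1 hs)) _ hx'
    have h2 := congrArg (fun z => g * z * g⁻¹) h
    simpa [mul_assoc] using h2
  have heq : ∀ a ∈ (S : Subgroup G), a ≠ 1 → coreAt a = coreAt t := fun a ha ha1 =>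
    le_antisymm (hT.coreAt_le_of_centralized ha htS ha1 ht1 (hall a ha ha1))
      (hT.coreAt_le_of_centralized htS ha ht1 ha1 hcent)
  set M := normalizer (coreAt t : Set G) with hM
  have hMtop : M ≠ ⊤ := by
    intro e
    haveI := hT.cfg.simple
    rcases (normalizer_eq_top_iff.1 e).eq_bot_or_eq_top with h | h
    · exact hne ((map_eq_bot_iff_of_injective _ (subtype_injective _)).1 h)
    · have := odd_card_coreAt t
      rw [h, Subgroup.card_top] at this
      exact Nat.not_even_iff_odd.2 this hT.cfg.even_card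
  refine hT.noSE M (H70.Balanced.isStronglyEmbedded_of_centralizer_le hMtop S ?_ ?_ ?_)
  · exact fun e => ht1 (by rw [e, mem_bot] at htS; exact htS)
  · intro g hg
    refine Coprime.mem_normalizer_of_map_conj
      (eq_of_le_of_card_ge ?_ (by rw [Coprime.card_map_conj]))
    rintro _ ⟨x, hx, rfl⟩
    have h := conj_mem_coreAt g hx
    rwa [heq _ ((mem_normalizer_iff.1 hg t).1 htS) fun e => ht1 (conj_eq_one_iff.1 e)] at h
  · intro a ha hoa c hc
    have ha1 : a ≠ 1 := fun e => by rw [e, orderOf_one] at hoa; omega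
    refine Coprime.mem_normalizer_of_map_conj
      (eq_of_le_of_card_ge ?_ (by rw [Coprime.card_map_conj]))
    rintro _ ⟨x, hx, rfl⟩
    rw [SetLike.mem_coe, ← heq a ha ha1] at hx
    have h := conj_mem_coreAt c hx
    rw [mem_centralizer_singleton_iff.1 hc, mul_inv_cancel_right, heq a ha ha1] at h
    exact h

end Three

end Cfsg.Agent.H77.Walter
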