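import Cfsg.Agent.H77.Walter.Pieces
import Cfsg.Agent.H88.Walter.Ctx
import Cfsg.Agent.H57.Walter.CaseTwoThree

/-!
# Rank three: no fixed involution, transitivity

An element of `S` fixed by `N(S)` is trivial.  If `S = ⟨t⟩ × V` and an element of `N(S) ∩ C(t)`
rotates `V`, then `N(S)` is transitive on the involutions of `S`.
-/

set_option autoImplicit false
set_option linter.unusedSectionVars false
set_option linter.style.haveILetI false

namespace Cfsg.Agent.H77.Walter

open Subgroup Cfsg.Agent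
open scoped commutatorElement

universe u

variable {G : Type u} [Group G] [Finite G] {S : Sylow 2 G}

local instance fact_two_fused : Fact (Nat.Prime 2) := ⟨Nat.prime_two⟩

/-- An involution of `S` fixed by `N(S)` is trivial. -/
theorem no_fixed (hcfg : H10.Walter.Cfg G) {a : G} (ha : a ∈ (S : Subgroup G)) (haa : a * a = 1)
    (hfix : ∀ n ∈ normalizer ((S : Subgroup G) : Set G), n * a * n⁻¹ = a) : a = 1 := by
  haveI := hcfg.simple
  set N := normalizer ((S : Subgroup G) : Set G) with hN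
  have hperf : commutator G = ⊤ := by
    refine ((commutator G).normal_of_characteristic.eq_bot_or_eq_top).resolve_left fun e => ?_
    exact hcfg.nonab ⟨⟨fun x y => commutatorElement_eq_one_iff_mul_comm.1
      (mem_bot.1 (e ▸ commutator_mem_commutator (mem_top x) (mem_top y)))⟩⟩
  have h0 := S0074.result S (hcfg.absyl S)
  rw [hperf, top_inf_eq] at h0
  have haN : a ∈ ⁅N, N⁆ := (h0 ▸ ha : a ∈ ⁅N, N⁆ ⊓ (S : Subgroup G)).1
  have hSN : (S : Subgroup G) ≤ N := le_normalizer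
  set P : Subgroup N := (S : Subgroup G).subgroupOf N with hP
  haveI : IsMulCommutative P := ⟨⟨fun x y =>
    Subtype.ext (Subtype.ext (hcfg.absyl.comm S.isPGroup' x.2 y.2).eq)⟩⟩
  letI : CommGroup P := { (inferInstance : Group P) with mul_comm := IsMulCommutative.is_comm.comm }
  set f : N →* P := MonoidHom.transfer (MonoidHom.id P)
  set g : N := ⟨a, hSN ha⟩
  have hcen : ∀ (k : ℕ) (x : N), x⁻¹ * g ^ k * x = g ^ k := by
    intro k x
    have hc : Commute (x : G) a := (mul_inv_eq_iff_eq_mul.1 (hfix x x.2))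
    refine Subtype.ext ?_
    push_cast
    rw [mul_assoc, ← (hc.pow_right k).eq, inv_mul_cancel_left]
  have hval := MonoidHom.transfer_eq_pow (ϕ := MonoidHom.id P) g fun k x _ => hcen k x
  have hker : g ∈ f.ker := by
    have hle : commutator N ≤ f.ker := by
      rw [_root_.commutator_def, commutator_le]
      intro x _ y _
      rw [MonoidHom.mem_ker, map_commutatorElement, commutatorElement_eq_one_iff_mul_comm]
      exact mul_comm _ _
    refine hle ?_
    rw [← map_subtype_commutator] at haN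
    obtain ⟨g', hg', e⟩ := haN
    rwa [show g = g' from Subtype.ext e.symm]
  rw [MonoidHom.mem_ker] at hker
  have he : a ^ P.index = 1 := by
    have := congrArg (fun q : P => ((q : N) : G)) (hval.symm.trans hker)
    simpa using this
  have hodd : Odd P.index := Odd.of_dvd_nat (Nat.odd_iff.2 (Nat.two_dvd_ne_zero.1 S.not_dvd_index))
    (relIndex_dvd_index_of_le hSN)
  exact orderOf_eq_one_iff.1 (Nat.eq_one_of_dvd_coprimes (Nat.coprime_two_left.2 hodd)
    (orderOf_dvd_of_pow_eq_one (by rw [pow_two, haa])) (orderOf_dvd_of_pow_eq_one he))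

/-- `N(S)` is transitive on the involutions of `S`. -/
theorem trans_of_rotation (hcfg : H10.Walter.Cfg G) {t v w : G} (htS : t ∈ (S : Subgroup G))
    (hvS : v ∈ (S : Subgroup G)) (hwS : w ∈ (S : Subgroup G))
    (hsq : ∀ x ∈ (S : Subgroup G), x * x = 1)
    (hcases : ∀ x ∈ (S : Subgroup G), x = 1 ∨ x = t ∨ x = v ∨ x = w ∨ x = v * w ∨ x = t * v ∨
      x = t * w ∨ x = t * (v * w))
    (ht1 : t ≠ 1) (hv1 : v ≠ 1) (hw1 : w ≠ 1) (hvw : v ≠ w) (htv : t ≠ v) (htw : t ≠ w)
    (htvw : t ≠ v * w) {y : G} (hy : y ∈ normalizer ((S : Subgroup G) : Set G))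
    (hyt : Commute y t) (hyv : y * v * y⁻¹ = w) (hyw : y * w * y⁻¹ = v * w) :
    ∀ x ∈ (S : Subgroup G), x ≠ 1 →
      ∃ n ∈ normalizer ((S : Subgroup G) : Set G), n * t * n⁻¹ = x := by
  classical
  set N := normalizer ((S : Subgroup G) : Set G) with hN
  let O : Set G := {x | ∃ n ∈ N, n * t * n⁻¹ = x}
  have hcomm : ∀ {a b : G}, a ∈ (S : Subgroup G) → b ∈ (S : Subgroup G) → a * b = b * a :=
    fun ha hb => (hcfg.absyl.comm S.isPGroup' ha hb).eq
  have hOy : ∀ x ∈ O, y * x * y⁻¹ ∈ O := by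
    rintro _ ⟨n, hn, rfl⟩
    exact ⟨y * n, mul_mem hy hn, by group⟩
  have htO : t ∈ O := ⟨1, one_mem _, by simp⟩
  have hcycle : y * (v * w) * y⁻¹ = v := by
    rw [show y * (v * w) * y⁻¹ = (y * v * y⁻¹) * (y * w * y⁻¹) by group, hyv, hyw, hcomm hvS hwS,
      ← mul_assoc, hsq w hwS, one_mul]
  have hyt' : y * t * y⁻¹ = t := by rw [hyt.eq, mul_inv_cancel_right]
  have hyprod : ∀ a b : G, y * a * y⁻¹ = b → y * (t * a) * y⁻¹ = t * b := fun a b e => by
    rw [show y * (t * a) * y⁻¹ = (y * t * y⁻¹) * (y * a * y⁻¹) by group, hyt', e]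
  have hA : ∀ x, (x = v ∨ x = w ∨ x = v * w) → x ∈ O → v ∈ O ∧ w ∈ O ∧ v * w ∈ O := by
    intro x hx hxO
    rcases hx with rfl | rfl | rfl
    · have h1 := hyv ▸ hOy _ hxO
      exact ⟨hxO, h1, hyw ▸ hOy _ h1⟩
    · have h1 := hyw ▸ hOy _ hxO
      exact ⟨hcycle ▸ hOy _ h1, hxO, h1⟩
    · have h1 := hcycle ▸ hOy _ hxO
      exact ⟨h1, hyv ▸ hOy _ h1, hxO⟩
  have hB : ∀ x, (x = t * v ∨ x = t * w ∨ x = t * (v * w)) → x ∈ O →
      t * v ∈ O ∧ t * w ∈ O ∧ t * (v * w) ∈ O := by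
    intro x hx hxO
    have e1 := hyprod _ _ hyv
    have e2 := hyprod _ _ hyw
    have e3 := hyprod _ _ hcycle
    rcases hx with rfl | rfl | rfl
    · have h1 := e1 ▸ hOy _ hxO
      exact ⟨hxO, h1, e2 ▸ hOy _ h1⟩
    · have h1 := e2 ▸ hOy _ hxO
      exact ⟨e3 ▸ hOy _ h1, hxO, h1⟩
    · have h1 := e3 ▸ hOy _ hxO
      exact ⟨h1, e1 ▸ hOy _ h1, hxO⟩
  -- the orbit has odd length
  letI : MulAction ↥N G :=
    MulAction.compHom G (MulAut.conj.comp N.subtype : ↥N →* MulAut G)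
  have hOrb : MulAction.orbit ↥N t = O := by
    ext x
    exact ⟨fun ⟨n, hn⟩ => ⟨n, n.2, hn⟩, fun ⟨n, hn, e⟩ => ⟨⟨n, hn⟩, e⟩⟩
  have hodd : Odd (Nat.card O) := by
    rw [← hOrb, Nat.card_congr (MulAction.orbitEquivQuotientStabilizer ↥N t),
      ← Subgroup.index_eq_card]
    by_contra he
    rw [Nat.not_odd_iff_even] at he
    have hSN : (S : Subgroup G) ≤ N := le_normalizer
    have hle : (S : Subgroup G).subgroupOf N ≤ MulAction.stabilizer ↥N t := by
      intro n hn
      show (n : G) * t * (n : G)⁻¹ = t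
      exact mul_inv_eq_iff_eq_mul.2 (hcomm (show (n : G) ∈ (S : Subgroup G) from hn) htS)
    have h2 : 2 ∣ ((S.subtype hSN : Sylow 2 ↥N) : Subgroup ↥N).index :=
      he.two_dvd.trans (index_dvd_of_le hle)
    exact (S.subtype hSN : Sylow 2 ↥N).not_dvd_index h2
  have hfour : ∀ a b c : G, a ≠ b → a ≠ c → b ≠ c → a ≠ t → b ≠ t → c ≠ t →
      ¬ O = {t, a, b, c} := by
    intro a b c hab hac hbc hat hbt hct e
    rw [e, Nat.card_coe_set_eq, Set.ncard_insert_of_notMem (by simp [Ne.symm hat, Ne.symm hbt,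
      Ne.symm hct]), Set.ncard_insert_of_notMem (by simp [hab, hac]), Set.ncard_pair hbc] at hodd
    exact absurd hodd (by decide)
  have hO : ∀ x ∈ O, x ∈ (S : Subgroup G) ∧ x ≠ 1 := by
    rintro _ ⟨n, hn, rfl⟩
    exact ⟨(mem_normalizer_iff.1 hn t).1 htS, fun e => ht1 (conj_eq_one_iff.1 e)⟩
  -- some element is moved
  obtain ⟨x₀, hx₀, hx₀t⟩ : ∃ x ∈ O, x ≠ t := by
    by_contra hno
    push Not at hno
    exact ht1 (no_fixed hcfg htS (hsq t htS) fun n hn => hno _ ⟨n, hn, rfl⟩)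
  have hboth : (v ∈ O ∧ w ∈ O ∧ v * w ∈ O) ∧ t * v ∈ O ∧ t * w ∈ O ∧ t * (v * w) ∈ O := by
    by_contra hno
    have hmem : ∀ x ∈ O, x = t ∨ (x = v ∨ x = w ∨ x = v * w) ∨
        (x = t * v ∨ x = t * w ∨ x = t * (v * w)) := by
      intro x hx
      rcases hcases x (hO x hx).1 with e | e | e | e | e | e | e | e
      exacts [absurd e (hO x hx).2, Or.inl e, Or.inr (Or.inl (Or.inl e)),
        Or.inr (Or.inl (Or.inr (Or.inl e))), Or.inr (Or.inl (Or.inr (Or.inr e))),
        Or.inr (Or.inr (Or.inl e)), Or.inr (Or.inr (Or.inr (Or.inl e))),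
        Or.inr (Or.inr (Or.inr (Or.inr e)))]
    have hvvw : v ≠ v * w := fun e => hw1 (mul_eq_left.1 e.symm)
    have hwvw : w ≠ v * w := fun e => hv1 (mul_eq_right.1 e.symm)
    rcases hmem x₀ hx₀ with e | e | e
    · exact hx₀t e
    · obtain ⟨h1, h2, h3⟩ := hA x₀ e hx₀
      refine hfour v w (v * w) hvw hvvw hwvw (Ne.symm htv) (Ne.symm htw) (Ne.symm htvw) ?_
      refine Set.eq_of_subset_of_subset (fun x hx => ?_) ?_
      · rcases hmem x hx with e' | e' | e'
        · exact Or.inl e'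
        · exact Or.inr e'
        · exact absurd ⟨⟨h1, h2, h3⟩, hB x e' hx⟩ hno
      · rintro x (rfl | rfl | rfl | rfl)
        exacts [htO, h1, h2, h3]
    · obtain ⟨h1, h2, h3⟩ := hB x₀ e hx₀
      refine hfour (t * v) (t * w) (t * (v * w)) (fun e' => hvw (mul_left_cancel e'))
        (fun e' => hvvw (mul_left_cancel e')) (fun e' => hwvw (mul_left_cancel e'))
        (fun e' => hv1 (mul_eq_left.1 e')) (fun e' => hw1 (mul_eq_left.1 e'))
        (fun e' => hvw ?_) ?_
      · have h12 : v * w = 1 := mul_eq_left.1 e'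
        rw [← inv_eq_of_mul_eq_one_right h12]
        exact (inv_eq_of_mul_eq_one_right (hsq v hvS)).symm
      refine Set.eq_of_subset_of_subset (fun x hx => ?_) ?_
      · rcases hmem x hx with e' | e' | e'
        · exact Or.inl e'
        · exact absurd ⟨hA x e' hx, h1, h2, h3⟩ hno
        · exact Or.inr e'
      · rintro x (rfl | rfl | rfl | rfl)
        exacts [htO, h1, h2, h3]
  obtain ⟨⟨h1, h2, h3⟩, h4, h5, h6⟩ := hboth
  intro x hxS hx1
  rcases hcases x hxS with rfl | rfl | rfl | rfl | rfl | rfl | rfl | rfl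
  · exact absurd rfl hx1
  exacts [htO, h1, h2, h3, h4, h5, h6]

end Cfsg.Agent.H77.Walter
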