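import Cfsg.Agent.H77.Walter.Basic
import Cfsg.Agent.H77.Walter.CompAux
import Cfsg.Agent.H29.Walter.PslFacts
import Cfsg.Agent.Linear.TwoClasses
import Cfsg.Agent.H10.Walter.Comp.TypeR

/-!
# Rank three: the component of an involution centraliser modulo its core

`X` has abelian Sylow 2-subgroups, trivial odd core, 2-rank at most three and a central involution.
A component is `PSL₂(q)`, `q ≡ 3, 5 (mod 8)`; when `T` is elementary it is the only one, its
centraliser is generated by the involution and `F*(X)` is their product.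
-/

set_option autoImplicit false
set_option linter.unusedSectionVars false
set_option linter.style.haveILetI false

namespace Cfsg.Agent.H77.Walter

open Subgroup Cfsg.Agent
open Cfsg.Agent.H10.Walter (AbSyl IsOddPSL IsEvenPSL IsTypeR Shape)

universe u

variable {L : Type u} [Group L] [Finite L]

local instance fact_two_pieces : Fact (Nat.Prime 2) := ⟨Nat.prime_two⟩

/-- A perfect group has no non-trivial cyclic Sylow `2`-subgroup. -/
theorem not_isCyclic_of_perfect [Group.IsPerfect L] (heven : 2 ∣ Nat.card L) (P : Sylow 2 L) :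
    ¬ IsCyclic (P : Subgroup L) := by
  intro hcy
  have hmin : (Nat.card L).minFac = 2 := (Nat.minFac_eq_two_iff _).2 heven
  have hc := IsCyclic.normalizer_le_centralizer hmin (P := P) hcy
  have hle : commutator L ≤ (MonoidHom.transferSylow P hc).ker := by
    rw [_root_.commutator_def, Subgroup.commutator_le]
    intro a _ b _
    rw [MonoidHom.mem_ker, map_commutatorElement, commutatorElement_eq_one_iff_mul_comm]
    exact (IsCyclic.isMulCommutative (α := (P : Subgroup L))).is_comm.comm _ _
  rw [Group.IsPerfect.commutator_eq_top] at hle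
  have hcomp := MonoidHom.ker_transferSylow_isComplement' P hc
  rw [eq_top_iff.2 hle] at hcomp
  exact P.ne_bot_of_dvd_card heven (hcomp.symm.disjoint.eq_bot_of_le le_top)

/-- In `PSL₂(q)`, `q ≡ 3, 5 (mod 8)`, the Sylow `2`-subgroups are four groups. -/
theorem oddPSL_sylow (hL : IsOddPSL L) [Group.IsPerfect L] (P : Sylow 2 L) :
    Nat.card (P : Subgroup L) = 4 ∧ ∀ x ∈ (P : Subgroup L), x * x = 1 := by
  have h8 := H29.Walter.card_mod_eight hL
  obtain ⟨n, hn⟩ := IsPGroup.iff_card.1 P.isPGroup'
  have hmul := (P : Subgroup L).card_mul_index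
  have hnd := P.not_dvd_index
  have hn2 : n = 2 := by
    rcases Nat.lt_or_ge n 2 with hlt | hge
    · exfalso
      have : n = 0 ∨ n = 1 := by omega
      rcases this with rfl | rfl <;> rw [hn] at hmul <;> omega
    · rcases hge.eq_or_lt with h | h
      · exact h.symm
      · exfalso
        have hd : 2 ^ 3 ∣ Nat.card L := (pow_dvd_pow 2 h).trans (hn ▸ Dvd.intro _ hmul)
        norm_num at hd
        omega
  subst hn2
  refine ⟨hn.trans (by norm_num), fun x hx => ?_⟩
  have hd : orderOf (⟨x, hx⟩ : (P : Subgroup L)) ∣ 2 ^ 2 := hn ▸ orderOf_dvd_natCard _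
  obtain ⟨k, hk, e⟩ := (Nat.dvd_prime_pow Nat.prime_two).1 hd
  have hk1 : k ≤ 1 := by
    by_contra hk2
    have hk' : k = 2 := by omega
    subst hk'
    exact not_isCyclic_of_perfect (by omega) P (isCyclic_of_orderOf_eq_card _ (e.trans hn.symm))
  rw [Subgroup.orderOf_mk] at e
  rw [← pow_two]
  exact orderOf_dvd_iff_pow_eq_one.1 (e ▸ pow_dvd_pow 2 hk1)

/-- The root subgroup of `PSL₂(2 ^ m)`. -/
theorem exists_elementary_evenPSL {F : Type} [Field F] [Fintype F] {m : ℕ}
    (hF : Fintype.card F = 2 ^ m)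
    (e : L ≃* Matrix.ProjectiveSpecialLinearGroup (Fin 2) F) :
    ∃ U : Subgroup L, (∀ x ∈ U, x * x = 1) ∧ Nat.card U = 2 ^ m := by
  haveI : CharP F 2 := by
    obtain ⟨p, hp⟩ := CharP.exists F
    haveI := hp
    obtain ⟨n, hpp, hn⟩ := FiniteField.card F p
    have hdvd : p ∣ 2 ^ m := by rw [← hF, hn]; exact dvd_pow_self p n.ne_zero
    obtain rfl := (Nat.prime_dvd_prime_iff_eq hpp Nat.prime_two).1 (hpp.dvd_of_dvd_pow hdvd)
    exact hp
  have hmul : ∀ a b : F, (Linear.upSL a : Matrix.SpecialLinearGroup (Fin 2) F) * Linear.upSL b =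
      Linear.upSL (a + b) := fun a b => by
    refine Subtype.ext ?_
    rw [Matrix.SpecialLinearGroup.coe_mul, Linear.upSL_coe, Linear.upSL_coe, Linear.upSL_coe]
    simp [add_comm]
  let u : Multiplicative F →* L :=
    e.symm.toMonoidHom.comp ((QuotientGroup.mk' _).comp (MonoidHom.mk'
      (fun a => (Linear.upSL (Multiplicative.toAdd a) : Matrix.SpecialLinearGroup (Fin 2) F))
      fun a b => (hmul _ _).symm))
  have hinj : Function.Injective u := by
    rw [injective_iff_map_eq_one]
    intro a ha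
    have h1 := e.symm.injective (ha.trans (map_one e.symm).symm)
    have h2 : (Linear.upSL (Multiplicative.toAdd a) : Matrix.SpecialLinearGroup (Fin 2) F) ∈
        center (Matrix.SpecialLinearGroup (Fin 2) F) := (QuotientGroup.eq_one_iff _).1 h1
    obtain ⟨c, -, hc⟩ := Matrix.SpecialLinearGroup.mem_center_iff.1 h2
    have h01 := congrFun (congrFun hc 0) 1
    rw [Linear.upSL_coe] at h01
    simp at h01
    exact Multiplicative.toAdd.injective h01.symm
  refine ⟨u.range, ?_, ?_⟩
  · rintro _ ⟨a, rfl⟩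
    rw [← map_mul, show a * a = 1 from congrArg Multiplicative.ofAdd
      (CharTwo.add_self_eq_zero (Multiplicative.toAdd a)), map_one]
  · rw [← Nat.card_congr (MonoidHom.ofInjective hinj).toEquiv, Nat.card_eq_fintype_card,
      Fintype.card_multiplicative, hF]

/-- A group of type R contains an elementary abelian subgroup of order eight. -/
theorem exists_elementary_typeR (hL : IsTypeR L) :
    ∃ U : Subgroup L, (∀ x ∈ U, x * x = 1) ∧ Nat.card U = 8 := by
  obtain ⟨-, -, t, E, E₀, ht, hdir, hE0, -, hE0P, -⟩ := hL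
  haveI := H29.Walter.isSimpleGroup hE0P
  have h8 := H29.Walter.card_mod_eight hE0P
  haveI : Group.IsPerfect ↥E₀ := by
    refine ⟨(commutator E₀).normal_of_characteristic.eq_bot_or_eq_top.resolve_left fun h => ?_⟩
    have hcomm : ∀ a b : E₀, a * b = b * a := fun a b => commutatorElement_eq_one_iff_mul_comm.1
      (mem_bot.1 (h ▸ commutator_mem_commutator (mem_top a) (mem_top b)))
    haveI : Group.IsSolvable ↥E₀ := Group.isSolvable_of_comm hcomm
    have hp := (IsSimpleGroup.comm_iff_isSolvable (G := ↥E₀)).2 inferInstance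
    obtain ⟨P⟩ : Nonempty (Sylow 2 E₀) := inferInstance
    -- a simple abelian group has prime order
    letI : CommGroup ↥E₀ := { (inferInstance : Group ↥E₀) with mul_comm := hcomm }
    have hprime := IsSimpleGroup.prime_card (α := ↥E₀)
    have h2 := (Nat.prime_dvd_prime_iff_eq Nat.prime_two hprime).1 (by omega)
    omega
  obtain ⟨P⟩ : Nonempty (Sylow 2 E₀) := inferInstance
  obtain ⟨hP4, hPsq⟩ := oddPSL_sylow hE0P P
  set V : Subgroup L := (P : Subgroup E₀).map E₀.subtype with hV
  have hVE : V ≤ E := by rintro _ ⟨x, -, rfl⟩; exact hE0 x.2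
  have hcomm : ∀ x ∈ V, Commute t x := fun x hx => by
    exact hdir.2.2.1 t (mem_zpowers t) x (hVE hx)
  have htt : t * t = 1 := by rw [← pow_two, ← ht, pow_orderOf_eq_one]
  have hVsq : ∀ x ∈ V, x * x = 1 := by
    rintro _ ⟨x, hx, rfl⟩
    rw [← map_mul, hPsq x hx, map_one]
  refine ⟨zpowers t ⊔ V, fun x hx => ?_, ?_⟩
  · have hn : zpowers t ≤ normalizer (V : Set L) := by
      refine zpowers_le.2 (centralizer_le_normalizer _ (mem_centralizer_iff.2 fun y hy => ?_))
      exact (hcomm y hy).eq.symm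
    rw [← SetLike.mem_coe, coe_mul_of_left_le_normalizer_right _ _ hn] at hx
    obtain ⟨a, ha, b, hb, rfl⟩ := hx
    show a * b * (a * b) = 1
    rcases eq_one_or_of_mem_zpowers htt ha with rfl | rfl
    · rw [one_mul, hVsq b hb]
    · rw [(hcomm b hb).symm.mul_mul_mul_comm, htt, hVsq b hb, one_mul]
  · have hd : zpowers t ⊓ V = ⊥ := by
      rw [eq_bot_iff]
      rintro x ⟨hx1, hx2⟩
      exact hdir.2.2.2.1.le ⟨hx1, hVE hx2⟩
    have hn : zpowers t ≤ normalizer (V : Set L) := by
      refine zpowers_le.2 (centralizer_le_normalizer _ (mem_centralizer_iff.2 fun y hy => ?_))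
      exact (hcomm y hy).eq.symm
    have hcard : Nat.card V = 4 := by
      rw [hV, Subgroup.card_map_of_injective E₀.subtype_injective, hP4]
    let f : ↥(zpowers t) × ↥V → ↥(zpowers t ⊔ V : Subgroup L) := fun p =>
      ⟨p.1 * p.2, mul_mem_sup p.1.2 p.2.2⟩
    have hf : Function.Bijective f := by
      refine ⟨fun p q e => Subgroup.mul_injective_of_disjoint (disjoint_iff.2 hd)
        (congrArg Subtype.val e), fun x => ?_⟩
      have hx := x.2
      rw [← SetLike.mem_coe, coe_mul_of_left_le_normalizer_right _ _ hn] at hx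
      obtain ⟨a, ha, b, hb, e⟩ := hx
      exact ⟨(⟨a, ha⟩, ⟨b, hb⟩), Subtype.ext e⟩
    rw [← Nat.card_congr (Equiv.ofBijective f hf), Nat.card_prod, Nat.card_zpowers, ht, hcard]

variable {X : Type u} [Group X] [Finite X]

section Data

variable (h : AbSyl X) (hO : Cfsg.oddCore X = ⊥)
  (hrank : ∀ E : Subgroup X, (∀ a ∈ E, a * a = 1) → Nat.card E ≤ 8)
  (hshape : ∀ K : Subgroup X, Cfsg.IsComponent K → Shape ↥K)
  (T : Sylow 2 X) {z : X} (hzT : z ∈ (T : Subgroup X)) (hz1 : z ≠ 1) (hzz : z * z = 1)
  (hzc : z ∈ center X) {K : Subgroup X} (hK : Cfsg.IsComponent K)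
include h hO hrank hshape hzT hz1 hzz hzc hK

theorem z_not_mem : z ∉ K := by
  intro hzK
  obtain ⟨P⟩ : Nonempty (Sylow 2 K) := inferInstance
  haveI : Group.IsPerfect ↥K := hK.2.1
  haveI : IsMulCommutative ↥(P : Subgroup K) := h.subgroup K P
  have hc : (⟨z, hzK⟩ : K) ∈ center K := mem_center_iff.2 fun y =>
    Subtype.ext (mem_center_iff.1 hzc y)
  exact hz1 (congrArg Subtype.val (Components.eq_one_of_perfect_center P hc
    (Subtype.ext (by rw [pow_two]; exact hzz))))

/-- A component is `PSL₂(q)`, `q ≡ 3, 5 (mod 8)`. -/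
theorem isOddPSL_component : IsOddPSL ↥K := by
  -- elementary subgroups of `K` have order at most four
  have hU : ∀ U : Subgroup K, (∀ x ∈ U, x * x = 1) → Nat.card U ≤ 4 := by
    intro U hUsq
    have hzU : z ∉ U.map K.subtype := fun hm => z_not_mem h hO hrank hshape T hzT hz1 hzz hzc hK
      (map_subtype_le U hm)
    have hn : zpowers z ≤ normalizer ((U.map K.subtype : Subgroup X) : Set X) :=
      zpowers_le.2 (centralizer_le_normalizer _ (mem_centralizer_iff.2 fun y _ =>
        mem_center_iff.1 hzc y))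
    have hd : zpowers z ⊓ U.map K.subtype = ⊥ := by
      rw [eq_bot_iff]
      rintro x ⟨hx1, hx2⟩
      rcases eq_one_or_of_mem_zpowers hzz hx1 with rfl | rfl
      · exact one_mem _
      · exact absurd hx2 hzU
    have hsq : ∀ a ∈ zpowers z ⊔ U.map K.subtype, a * a = 1 := by
      intro a ha
      rw [← SetLike.mem_coe, coe_mul_of_left_le_normalizer_right _ _ hn] at ha
      obtain ⟨b, hb, _, ⟨c, hc, rfl⟩, rfl⟩ := ha
      show b * (c : X) * (b * c) = 1
      have hcc : (c : X) * c = 1 := congrArg Subtype.val (hUsq c hc)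
      rcases eq_one_or_of_mem_zpowers hzz hb with rfl | rfl
      · rw [one_mul, hcc]
      · rw [(show Commute (c : X) b from mem_center_iff.1 hzc c).mul_mul_mul_comm,
          hzz, hcc, one_mul]
    have h8 := hrank _ hsq
    have hinj : Nat.card (↥(zpowers z) × ↥(U.map K.subtype)) ≤
        Nat.card ↥(zpowers z ⊔ U.map K.subtype : Subgroup X) :=
      Nat.card_le_card_of_injective (fun p => ⟨p.1 * p.2, mul_mem_sup p.1.2 p.2.2⟩)
        fun p q e => Subgroup.mul_injective_of_disjoint (disjoint_iff.2 hd)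
          (congrArg Subtype.val e)
    rw [Nat.card_prod, Subgroup.card_map_of_injective K.subtype_injective, Nat.card_zpowers,
      orderOf_eq_prime (by rw [pow_two, hzz]) hz1] at hinj
    omega
  rcases hshape K hK with he | ho | hR
  · obtain ⟨F, _, _, m, hm, hF, ⟨e⟩⟩ := he
    obtain ⟨U, hUsq, hUc⟩ := exists_elementary_evenPSL hF e
    have h4 := hU U hUsq
    have hm2 : m = 2 := by
      by_contra hne
      have := Nat.pow_le_pow_right two_pos (show 3 ≤ m by omega)
      omega
    haveI : Fact (Nat.Prime 5) := ⟨by norm_num⟩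
    obtain ⟨e4⟩ := Cfsg.Agent.S0252.result (F := F) (by rw [hF, hm2]; norm_num)
    obtain ⟨e5⟩ := Cfsg.Agent.S0253.result (F := ZMod 5) (ZMod.card 5)
    exact ⟨ZMod 5, inferInstance, inferInstance, by rw [ZMod.card], by rw [ZMod.card]; omega,
      ⟨e.trans (e4.trans e5.symm)⟩⟩
  · exact ho
  · obtain ⟨U, hUsq, hUc⟩ := exists_elementary_typeR hR
    have h4 := hU U hUsq
    omega

/-- The trace of a component is a four group. -/
theorem sylow_inf_component : Nat.card ↥((T : Subgroup X) ⊓ K : Subgroup X) = 4 ∧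
    ∀ x ∈ (T : Subgroup X) ⊓ K, x * x = 1 := by
  obtain ⟨P, hP⟩ := Cfsg.Agent.S0542.result 2 K hK.1 T
  haveI : Group.IsPerfect ↥K := hK.2.1
  obtain ⟨h4, hsq⟩ := oddPSL_sylow (isOddPSL_component h hO hrank hshape T hzT hz1 hzz hzc hK) P
  have he : (P : Subgroup K) = ((T : Subgroup X) ⊓ K).subgroupOf K := by
    rw [inf_subgroupOf_right]; exact hP
  refine ⟨?_, fun x hx => congrArg Subtype.val (hsq ⟨x, hx.2⟩ (he ▸ hx))⟩
  rw [← h4, he, Nat.card_congr (subgroupOfEquivOfLe inf_le_right).toEquiv]

theorem center_component {x : X} (hx : x ∈ K) (hxc : x ∈ centralizer (K : Set X)) : x = 1 := by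
  have hsimp := H10.Walter.component_simple h hO hK
  have hmem : (⟨x, hx⟩ : K) ∈ center K := mem_center_iff.2 fun y =>
    Subtype.ext (mem_centralizer_iff.1 hxc y y.2)
  rw [(hsimp.1.eq_bot_or_eq_top_of_normal _ inferInstance).resolve_right
    (Components.qs_center_ne_top hK.2), mem_bot] at hmem
  exact congrArg Subtype.val hmem

/-- The only involution of `C_T(K)` is the central one. -/
theorem unique_involution {q : X} (hqT : q ∈ (T : Subgroup X))
    (hqK : q ∈ centralizer (K : Set X)) (hq : q * q = 1) : q = 1 ∨ q = z := by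
  by_contra hno
  push Not at hno
  obtain ⟨hq1, hqz⟩ := hno
  obtain ⟨hP4, hPsq⟩ := sylow_inf_component h hO hrank hshape T hzT hz1 hzz hzc hK
  set P := (T : Subgroup X) ⊓ K
  have hzK : z ∈ centralizer (K : Set X) :=
    mem_centralizer_iff.2 fun y _ => mem_center_iff.1 hzc y
  have hzq : Commute z q := (mem_center_iff.1 hzc q).symm
  set Q := closure ({z, q} : Set X) with hQ
  have hQC : Q ≤ (T : Subgroup X) ⊓ centralizer (K : Set X) := by
    rw [hQ, closure_le]
    rintro _ (rfl | rfl)
    exacts [⟨hzT, hzK⟩, ⟨hqT, hqK⟩]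
  have hQsq : ∀ a ∈ Q, a * a = 1 := by
    intro a ha
    rcases H29.Walter.mem_closure_pair_cases hzz hq hzq ha with rfl | rfl | rfl | rfl
    · exact one_mul 1
    · exact hzz
    · exact hq
    · rw [hzq.symm.mul_mul_mul_comm, hzz, hq, one_mul]
  have hd : P ⊓ Q = ⊥ := by
    rw [eq_bot_iff]
    rintro x ⟨hx1, hx2⟩
    exact mem_bot.2 (center_component h hO hrank hshape T hzT hz1 hzz hzc hK hx1.2 (hQC hx2).2)
  have hcPQ : ∀ a ∈ P, ∀ b ∈ Q, Commute a b := fun a ha b hb =>
    mem_centralizer_iff.1 (hQC hb).2 a ha.2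
  have hn : P ≤ normalizer (Q : Set X) := fun a ha =>
    centralizer_le_normalizer _ (mem_centralizer_iff.2 fun b hb => (hcPQ a ha b hb).eq.symm)
  have hsq : ∀ a ∈ P ⊔ Q, a * a = 1 := by
    intro a ha
    rw [← SetLike.mem_coe, coe_mul_of_left_le_normalizer_right _ _ hn] at ha
    obtain ⟨b, hb, c, hc, rfl⟩ := ha
    show b * c * (b * c) = 1
    rw [(hcPQ b hb c hc).symm.mul_mul_mul_comm, hPsq b hb, hQsq c hc, one_mul]
  have h8 := hrank _ hsq
  have hinj : Nat.card (↥P × ↥Q) ≤ Nat.card ↥(P ⊔ Q : Subgroup X) :=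
    Nat.card_le_card_of_injective (fun p => ⟨p.1 * p.2, mul_mem_sup p.1.2 p.2.2⟩)
      fun p r e => Subgroup.mul_injective_of_disjoint (disjoint_iff.2 hd) (congrArg Subtype.val e)
  have h3 : 3 ≤ Nat.card Q := by
    let F : Fin 3 → ↥Q := ![1, ⟨z, subset_closure (Or.inl rfl)⟩, ⟨q, subset_closure (Or.inr rfl)⟩]
    have hF : Function.Injective F := by
      intro i i' e
      fin_cases i <;> fin_cases i' <;>
        simp [F, Subtype.ext_iff, hz1, Ne.symm hz1, hq1, Ne.symm hq1, hqz, Ne.symm hqz] at e ⊢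
    simpa using Nat.card_le_card_of_injective F hF
  rw [Nat.card_prod, hP4] at hinj
  omega

variable (hTsq : ∀ x ∈ (T : Subgroup X), x * x = 1)
include hTsq

theorem component_unique {K' : Subgroup X} (hK' : Cfsg.IsComponent K') : K' = K := by
  by_contra hne
  have hle : K' ≤ centralizer (K : Set X) :=
    commutator_eq_bot_iff_le_centralizer.1 (Components.components_commute hK' hK hne)
  have hzK' := z_not_mem h hO hrank hshape T hzT hz1 hzz hzc hK'
  have hsub : (T : Subgroup X) ⊓ K' ≤ ⊥ := by
    rintro x ⟨hx1, hx2⟩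
    rcases unique_involution h hO hrank hshape T hzT hz1 hzz hzc hK hx1 (hle hx2) (hTsq x hx1)
      with rfl | rfl
    · exact one_mem _
    · exact absurd hx2 hzK'
  have h4 := four_le_sylow_inf hK' T
  rw [le_bot_iff.1 hsub, Subgroup.card_bot] at h4
  omega

theorem centralizer_component : centralizer (K : Set X) = zpowers z ∧
    Cfsg.generalizedFittingSubgroup X = zpowers z ⊔ K := by
  have hzK : z ∈ centralizer (K : Set X) :=
    mem_centralizer_iff.2 fun y _ => mem_center_iff.1 hzc y
  haveI hzn : (zpowers z).Normal := ⟨fun a ha b => by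
    obtain ⟨i, rfl⟩ := mem_zpowers_iff.1 ha
    rw [((show Commute b z from mem_center_iff.1 hzc b).zpow_right i).eq, mul_inv_cancel_right]
    exact zpow_mem (mem_zpowers z) i⟩
  have hlayer : Cfsg.layer X = K := le_antisymm
    (Components.layer_le_iff.mpr fun K' hK' =>
      (component_unique h hO hrank hshape T hzT hz1 hzz hzc hK hTsq hK').le)
    (Components.component_le_layer hK)
  have hfit : Cfsg.fittingSubgroup X = zpowers z := by
    refine le_antisymm (fun x hx => ?_) ?_
    · have hxT : x ∈ (T : Subgroup X) :=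
        Cores.pCore_le_sylow T (Components.fitting_le_pCore (p := 2) hO hx)
      have hxK : x ∈ centralizer (K : Set X) := mem_centralizer_iff.2 fun y hy =>
        (Components.commute_of_commutator_eq_bot (Components.component_commutator_fitting hK) hy hx)
      rcases unique_involution h hO hrank hshape T hzT hz1 hzz hzc hK hxT hxK (hTsq x hxT)
        with rfl | rfl
      · exact one_mem _
      · exact mem_zpowers _
    · exact Components.normal_nilpotent_le_fitting hzn
        ⟨⟨1, Subgroup.upperCentralSeries_one_eq_top_iff.2 inferInstance⟩⟩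
  have hF : Cfsg.generalizedFittingSubgroup X = zpowers z ⊔ K := by
    rw [Components.genFitting_eq_sup, hlayer, hfit, sup_comm]
  refine ⟨le_antisymm (fun c hc => ?_) (zpowers_le.2 hzK), hF⟩
  have hcF : c ∈ Cfsg.generalizedFittingSubgroup X := by
    refine Components.centralizer_genFitting_le ?_
    rw [hF]
    refine mem_centralizer_iff.2 fun x hx => ?_
    refine mem_centralizer_singleton_iff.1 ((sup_le ?_ ?_ :
      zpowers z ⊔ K ≤ centralizer ({c} : Set X)) hx)
    · exact zpowers_le.2 (mem_centralizer_singleton_iff.2 (mem_center_iff.1 hzc c).symm)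
    · exact fun y hy => mem_centralizer_singleton_iff.2 (mem_centralizer_iff.1 hc y hy)
  rw [hF, ← SetLike.mem_coe, coe_mul_of_left_le_normalizer_right _ _
    (zpowers_le.2 (centralizer_le_normalizer _ hzK))] at hcF
  obtain ⟨a, ha, b, hb, rfl⟩ := hcF
  have hbc : b ∈ centralizer (K : Set X) := by
    have : a⁻¹ * (a * b) ∈ centralizer (K : Set X) :=
      mul_mem (inv_mem ((zpowers_le.2 hzK) ha)) hc
    rwa [inv_mul_cancel_left] at this
  rw [center_component h hO hrank hshape T hzT hz1 hzz hzc hK hb hbc]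
  show a * 1 ∈ zpowers z
  rw [mul_one]
  exact ha

end Data

end Cfsg.Agent.H77.Walter
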