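import Cfsg.Agent.H77.Walter.Fused

/-!
# Rank three: the configuration `Three`

With 2-rank three and a component in some involution centraliser modulo its core, the Sylow
2-subgroup is elementary of order eight, its normaliser is transitive on its involutions and every
involution centraliser is `⟨ā⟩ × PSL₂(q)` modulo the core, up to odd index.
-/

set_option autoImplicit false
set_option linter.unusedSectionVars false
set_option linter.style.haveILetI false

namespace Cfsg.Agent.H77.Walter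

open Subgroup Cfsg.Agent
open Cfsg.Agent.H10.Walter (Bar IsOddPSL AbSyl)
open scoped commutatorElement

universe u

variable {G : Type u} [Group G] [Finite G] {S : Sylow 2 G}

local instance fact_two_zero : Fact (Nat.Prime 2) := ⟨Nat.prime_two⟩

/-- `S` embeds in `C / O(C)`. -/
theorem eq_of_toBar_eq {C : Subgroup G} {x y : ↥C} (hx : (x : G) ∈ (S : Subgroup G))
    (hy : (y : G) ∈ (S : Subgroup G)) (e : toBar C x = toBar C y) : x = y := by
  have h : x⁻¹ * y ∈ Cfsg.oddCore ↥C := by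
    rw [← QuotientGroup.eq_one_iff]
    show toBar C _ = 1
    simp only [toBar] at e ⊢
    rw [map_mul, map_inv, e, inv_mul_cancel]
  have hodd : Odd (orderOf ((x⁻¹ * y : ↥C) : G)) := by
    rw [Subgroup.orderOf_coe]
    exact (Cores.odd_card_oddCore (G := ↥C)).of_dvd_nat (Subgroup.orderOf_dvd_natCard _ h)
  obtain ⟨k, hk⟩ := S.isPGroup' ⟨((x⁻¹ * y : ↥C) : G), mul_mem (inv_mem hx) hy⟩
  have h1 : ((x⁻¹ * y : ↥C) : G) = 1 := orderOf_eq_one_iff.1 (Nat.eq_one_of_dvd_coprimes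
    (Nat.Coprime.pow_left k (Nat.coprime_two_left.2 hodd))
    (orderOf_dvd_of_pow_eq_one (congrArg Subtype.val hk)) dvd_rfl)
  exact inv_mul_eq_one.1 (Subtype.ext h1)

/-- The rank bound passes to `C / O(C)`. -/
theorem rank_bar (hcfg : H10.Walter.Cfg G) (h3 : Cfsg.PRankLE 2 3 G) {C : Subgroup G}
    (hSC : (S : Subgroup G) ≤ C) (E : Subgroup (Bar C)) (hE : ∀ a ∈ E, a * a = 1) :
    Nat.card E ≤ 8 := by
  set f := QuotientGroup.mk' (Cfsg.oddCore ↥C) with hf
  have hEp : IsPGroup 2 E := fun a => ⟨1, Subtype.ext (by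
    rw [pow_one, Subgroup.coe_pow, pow_two, hE a a.2, Subgroup.coe_one])⟩
  obtain ⟨g, hg⟩ := H39.exists_conj_le_sylow hEp
    ((S.subtype hSC).mapSurjective (QuotientGroup.mk'_surjective (Cfsg.oddCore ↥C)))
  set E' := E.map (MulAut.conj g).toMonoidHom with hE'
  set A : Subgroup ↥C := (S : Subgroup G).subgroupOf C ⊓ E'.comap f with hA
  have hAsq : ∀ a ∈ A, a * a = 1 := by
    intro a ha
    obtain ⟨b, hb, e⟩ : f a ∈ E' := ha.2
    refine eq_of_toBar_eq (S := S) (mul_mem ha.1 ha.1) (one_mem _) ?_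
    show f (a * a) = f 1
    rw [map_mul, map_one, ← e, ← map_mul, hE b hb, map_one]
  have hsurj : Nat.card E' ≤ Nat.card A := by
    refine Nat.card_le_card_of_surjective (fun a : A => (⟨f a, a.2.2⟩ : E')) ?_
    rintro ⟨_, b, hb, rfl⟩
    obtain ⟨a, ha, ea⟩ : g * b * g⁻¹ ∈ ((S : Subgroup G).subgroupOf C).map f := hg b hb
    exact ⟨⟨a, ha, show f a ∈ E' from ea ▸ ⟨b, hb, rfl⟩⟩, Subtype.ext ea⟩
  have h8 := h3 (A.map C.subtype) ⟨⟨fun a b => ?_⟩⟩ ?_
  · rw [Subgroup.card_map_of_injective C.subtype_injective] at h8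
    rw [hE', Subgroup.card_map_of_injective (MulEquiv.injective _)] at hsurj
    norm_num at h8
    omega
  · obtain ⟨a', ha', ea⟩ := a.2
    obtain ⟨b', hb', eb⟩ := b.2
    refine Subtype.ext ?_
    show (a : G) * b = b * a
    rw [← ea, ← eb]
    exact (hcfg.absyl.comm S.isPGroup' ha'.1 hb'.1).eq
  · rintro _ ⟨a, ha, rfl⟩
    rw [pow_two, ← map_mul, hAsq a ha, map_one]

/-- The facts at one involution. -/
theorem exists_data (hcfg : H10.Walter.Cfg G) (h3 : Cfsg.PRankLE 2 3 G) {t : G} (ht : orderOf t = 2)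
    (htS : t ∈ (S : Subgroup G)) (htC : t ∈ centralizer ({t} : Set G))
    {L : Subgroup (Bar (centralizer ({t} : Set G)))} (hL : Cfsg.IsComponent L) :
    Nat.card ↥(S : Subgroup G) = 8 ∧ (∀ x ∈ (S : Subgroup G), x * x = 1) ∧
    (∀ x ∈ (S : Subgroup G), x ≠ 1 →
      ∃ n ∈ normalizer ((S : Subgroup G) : Set G), n * t * n⁻¹ = x) ∧
    (∃ g ∈ normalizer ((S : Subgroup G) : Set G),
      Commute g t ∧ ∀ x ∈ (S : Subgroup G), Commute g x → x ∈ zpowers t) ∧
    IsOddPSL ↥L ∧ centralizer (L : Set (Bar (centralizer ({t} : Set G)))) =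
      zpowers (toBar (centralizer ({t} : Set G)) ⟨t, htC⟩) ∧
    Cfsg.generalizedFittingSubgroup (Bar (centralizer ({t} : Set G))) =
      zpowers (toBar (centralizer ({t} : Set G)) ⟨t, htC⟩) ⊔ L := by
  classical
  set C := centralizer ({t} : Set G) with hC
  have ht1 : t ≠ 1 := fun e => by rw [e, orderOf_one] at ht; omega
  have htt : t * t = 1 := by rw [← pow_two, ← ht, pow_orderOf_eq_one]
  have hSC : (S : Subgroup G) ≤ C := fun x hx =>
    mem_centralizer_singleton_iff.2 (hcfg.absyl.comm S.isPGroup' hx htS).eq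
  set f := QuotientGroup.mk' (Cfsg.oddCore ↥C) with hf
  set T : Sylow 2 (Bar C) :=
    (S.subtype hSC).mapSurjective (QuotientGroup.mk'_surjective (Cfsg.oddCore ↥C)) with hT
  have hTmem : ∀ {y : Bar C}, y ∈ (T : Subgroup (Bar C)) ↔
      ∃ x : ↥C, (x : G) ∈ (S : Subgroup G) ∧ f x = y := fun {y} => Iff.rfl
  set z := toBar C ⟨t, htC⟩ with hz
  have hX : AbSyl (Bar C) := hcfg.absyl_bar C
  have hO := H10.Walter.oddCore_bar C
  have hrank := rank_bar (S := S) hcfg h3 hSC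
  have hshape : ∀ K : Subgroup (Bar C), Cfsg.IsComponent K → H10.Walter.Shape ↥K := fun K hK =>
    hcfg.component_shape_bar (hcfg.centralizer_ne_top ht1) hK
  have hinj : ∀ {x y : ↥C}, (x : G) ∈ (S : Subgroup G) → (y : G) ∈ (S : Subgroup G) →
      f x = f y → x = y := fun hx hy e => eq_of_toBar_eq hx hy e
  have hzT : z ∈ (T : Subgroup (Bar C)) := hTmem.2 ⟨⟨t, htC⟩, htS, rfl⟩
  have hz1 : z ≠ 1 := fun e => ht1 (congrArg Subtype.val
    (hinj (x := ⟨t, htC⟩) (y := 1) htS (one_mem _) (e.trans (map_one f).symm)))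
  have hzz : z * z = 1 := by
    rw [hz, toBar, ← map_mul, show (⟨t, htC⟩ : ↥C) * ⟨t, htC⟩ = 1 from Subtype.ext htt, map_one]
  have hzc : z ∈ center (Bar C) := mem_center_iff.2 fun y => by
    obtain ⟨y, rfl⟩ := QuotientGroup.mk'_surjective _ y
    exact ((show Commute y (⟨t, htC⟩ : ↥C) from
      Subtype.ext (mem_centralizer_singleton_iff.1 y.2)).map f).eq
  obtain ⟨hP4, hPsq⟩ := sylow_inf_component hX hO hrank hshape T hzT hz1 hzz hzc hL
  have hLP : IsOddPSL ↥L := isOddPSL_component hX hO hrank hshape T hzT hz1 hzz hzc hL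
  have hTcomm : ∀ {a b : Bar C}, a ∈ (T : Subgroup (Bar C)) → b ∈ (T : Subgroup (Bar C)) →
      Commute a b := fun ha hb => hX.comm T.isPGroup' ha hb
  -- squares
  have hsquare : ∀ r : ↥C, (r : G) ∈ (S : Subgroup G) → r * r * (r * r) = 1 →
      r * r = 1 ∨ r * r = ⟨t, htC⟩ := by
    intro r hr hr4
    obtain ⟨g, hg, hc⟩ := H10.Walter.exists_inner hX hO hL T
      (hTmem.2 ⟨r, hr, rfl⟩ : f r ∈ (T : Subgroup (Bar C)))
    set c := f r * g⁻¹ with hcd
    have hcT : c ∈ (T : Subgroup (Bar C)) := mul_mem (hTmem.2 ⟨r, hr, rfl⟩) (inv_mem hg.1)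
    have hgg : g * g = 1 := hPsq g hg
    have hcc : c * c = f (r * r) := by
      have hrg : Commute (f r) g := hTcomm (hTmem.2 ⟨r, hr, rfl⟩) hg.1
      rw [hcd, inv_eq_of_mul_eq_one_right hgg, hrg.symm.mul_mul_mul_comm, hgg, mul_one, map_mul]
    rcases unique_involution hX hO hrank hshape T hzT hz1 hzz hzc hL (q := c * c)
        (mul_mem hcT hcT) (mul_mem hc hc) (by rw [hcc, ← map_mul, hr4, map_one]) with e | e
    · exact Or.inl (hinj (mul_mem hr hr) (one_mem _) (by rw [← hcc, e, map_one]))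
    · exact Or.inr (hinj (mul_mem hr hr) htS (by rw [← hcc, e]))
  have hsq : ∀ x ∈ (S : Subgroup G), x * x = 1 := by
    by_contra hno
    push Not at hno
    obtain ⟨x, hx, hxx⟩ := hno
    obtain ⟨k, hk⟩ := S.isPGroup' ⟨x, hx⟩
    obtain ⟨e, -, he⟩ := (Nat.dvd_prime_pow Nat.prime_two).1
      (orderOf_dvd_of_pow_eq_one (show x ^ 2 ^ k = 1 from congrArg Subtype.val hk))
    have he2 : 2 ≤ e := by
      by_contra hlt
      refine hxx ?_
      rw [← pow_two]
      exact orderOf_dvd_iff_pow_eq_one.1 (he ▸ pow_dvd_pow 2 (by omega : e ≤ 1))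
    set r := x ^ 2 ^ (e - 2) with hr
    have hr4 : r * r * (r * r) = 1 := by
      rw [show r * r * (r * r) = r ^ 4 by simp [pow_succ, mul_assoc], hr, ← pow_mul,
        show 2 ^ (e - 2) * 4 = orderOf x by
          rw [he, show (4 : ℕ) = 2 ^ 2 by norm_num, ← pow_add, Nat.sub_add_cancel he2],
        pow_orderOf_eq_one]
    have hr2 : r * r ≠ 1 := by
      rw [← pow_two, hr, ← pow_mul, ← pow_succ]
      intro h
      have h1 := orderOf_dvd_of_pow_eq_one h
      rw [he, Nat.pow_dvd_pow_iff_le_right (by norm_num)] at h1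
      omega
    have hrS : r ∈ (S : Subgroup G) := pow_mem hx _
    have hrt : ∀ s ∈ (S : Subgroup G), s * s * (s * s) = 1 → s * s ≠ 1 → s * s = t := by
      intro s hs h4 h2
      rcases hsquare ⟨s, hSC hs⟩ hs (Subtype.ext h4) with h | h
      · exact absurd (congrArg Subtype.val h) h2
      · exact congrArg Subtype.val h
    refine ht1 (no_fixed hcfg htS htt fun n hn => ?_)
    have e1 : n * r * n⁻¹ * (n * r * n⁻¹) = n * (r * r) * n⁻¹ := by group
    have e2 := hrt (n * r * n⁻¹) ((mem_normalizer_iff.1 hn r).1 hrS)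
      (by rw [e1, show n * (r * r) * n⁻¹ * (n * (r * r) * n⁻¹) = n * (r * r * (r * r)) * n⁻¹ by
        group, hr4, mul_one, mul_inv_cancel])
      (by rw [e1]; exact fun h => hr2 (conj_eq_one_iff.1 h))
    rwa [e1, hrt r hrS hr4 hr2] at e2
  have hTsq : ∀ a ∈ (T : Subgroup (Bar C)), a * a = 1 := by
    intro a ha
    obtain ⟨x, hx, rfl⟩ := hTmem.1 ha
    rw [← map_mul, show x * x = 1 from Subtype.ext (hsq x hx), map_one]
  obtain ⟨hCL, hFL⟩ := centralizer_component hX hO hrank hshape T hzT hz1 hzz hzc hL hTsq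
  -- the four group in `L`
  obtain ⟨a, ha, ha1⟩ : ∃ a ∈ (T : Subgroup (Bar C)) ⊓ L, a ≠ 1 := by
    refine ((T : Subgroup (Bar C)) ⊓ L).bot_or_exists_ne_one.resolve_left fun e => ?_
    rw [e, Subgroup.card_bot] at hP4
    omega
  obtain ⟨b, hb, hb1, hba⟩ : ∃ b ∈ (T : Subgroup (Bar C)) ⊓ L, b ≠ 1 ∧ b ≠ a := by
    by_contra hno
    push Not at hno
    have hsub : (((T : Subgroup (Bar C)) ⊓ L : Subgroup (Bar C)) : Set (Bar C)) ⊆ {1, a} :=
      fun u hu => by
        by_cases hu1 : u = 1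
        · exact Or.inl hu1
        · exact Or.inr (hno u hu hu1)
    have h2 := (Nat.card_mono (Set.toFinite _) hsub).trans (Set.ncard_insert_le _ _)
    rw [Set.ncard_singleton] at h2
    have : Nat.card ↥((T : Subgroup (Bar C)) ⊓ L : Subgroup (Bar C)) ≤ 2 := h2
    omega
  obtain ⟨v, hvS, hva⟩ := hTmem.1 ha.1
  obtain ⟨w, hwS, hwb⟩ := hTmem.1 hb.1
  have hab : Commute a b := hTcomm ha.1 hb.1
  have hcl : ∀ g ∈ (T : Subgroup (Bar C)) ⊓ L, g = 1 ∨ g = a ∨ g = b ∨ g = a * b := by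
    intro g hg
    have h := H29.Walter.centralizer_pair_le hLP (a := (⟨a, ha.2⟩ : L)) (b := (⟨b, hb.2⟩ : L))
      (fun e => ha1 (congrArg Subtype.val e)) (Subtype.ext (hPsq a ha))
      (fun e => hb1 (congrArg Subtype.val e)) (Subtype.ext (hPsq b hb)) (Subtype.ext hab.eq)
      (fun e => hba (congrArg Subtype.val e).symm) (g := (⟨g, hg.2⟩ : L))
      (Subtype.ext (hTcomm hg.1 ha.1).eq) (Subtype.ext (hTcomm hg.1 hb.1).eq)
    rcases h with h | h | h | h
    · exact Or.inl (congrArg Subtype.val h)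
    · exact Or.inr (Or.inl (congrArg Subtype.val h))
    · exact Or.inr (Or.inr (Or.inl (congrArg Subtype.val h)))
    · exact Or.inr (Or.inr (Or.inr (congrArg Subtype.val h)))
  have hzL := z_not_mem hX hO hrank hshape T hzT hz1 hzz hzc hL
  -- the eight elements
  have hsplit : ∀ y ∈ (T : Subgroup (Bar C)),
      ∃ g ∈ (T : Subgroup (Bar C)) ⊓ L, y = g ∨ y = z * g := by
    intro y hy
    obtain ⟨g, hg, hc⟩ := H10.Walter.exists_inner hX hO hL T hy
    refine ⟨g, hg, ?_⟩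
    rw [hCL] at hc
    rcases eq_one_or_of_mem_zpowers hzz hc with e | e
    · exact Or.inl (mul_inv_eq_one.1 e)
    · exact Or.inr (mul_inv_eq_iff_eq_mul.1 e)
  set tC : ↥C := ⟨t, htC⟩ with htCd
  have hcases : ∀ x ∈ (S : Subgroup G), x = 1 ∨ x = t ∨ x = v ∨ x = w ∨ x = (v : G) * w ∨
      x = t * v ∨ x = t * w ∨ x = t * ((v : G) * w) := by
    intro x hx
    have hxC : x ∈ C := hSC hx
    have key : ∀ {y : ↥C}, (y : G) ∈ (S : Subgroup G) → f ⟨x, hxC⟩ = f y → x = y :=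
      fun hy e => congrArg Subtype.val (hinj (x := ⟨x, hxC⟩) hx hy e)
    obtain ⟨g, hg, hcase⟩ := hsplit (f ⟨x, hxC⟩) (hTmem.2 ⟨⟨x, hxC⟩, hx, rfl⟩)
    rcases hcl g hg with rfl | rfl | rfl | rfl <;> rcases hcase with e | e
    · exact Or.inl (key (y := 1) (one_mem _) (by rw [e, map_one]))
    · exact Or.inr (Or.inl (key (y := tC) htS (by rw [e, mul_one])))
    · exact Or.inr (Or.inr (Or.inl (key hvS (by rw [e, hva]))))
    · exact Or.inr (Or.inr (Or.inr (Or.inr (Or.inr (Or.inl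
        (key (y := tC * v) (mul_mem htS hvS) (by rw [e, map_mul, hva])))))))
    · exact Or.inr (Or.inr (Or.inr (Or.inl (key hwS (by rw [e, hwb])))))
    · exact Or.inr (Or.inr (Or.inr (Or.inr (Or.inr (Or.inr (Or.inl
        (key (y := tC * w) (mul_mem htS hwS) (by rw [e, map_mul, hwb]))))))))
    · exact Or.inr (Or.inr (Or.inr (Or.inr (Or.inl
        (key (y := v * w) (mul_mem hvS hwS) (by rw [e, map_mul, hva, hwb]))))))
    · exact Or.inr (Or.inr (Or.inr (Or.inr (Or.inr (Or.inr (Or.inr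
        (key (y := tC * (v * w)) (mul_mem htS (mul_mem hvS hwS))
          (by rw [e, map_mul, map_mul, hva, hwb]))))))))
  have hcard : Nat.card ↥(S : Subgroup G) = 8 := by
    have hST : Nat.card ↥(S : Subgroup G) = Nat.card ↥(T : Subgroup (Bar C)) := by
      refine Nat.card_eq_of_bijective
        (fun x : ↥(S : Subgroup G) =>
          (⟨f ⟨x, hSC x.2⟩, hTmem.2 ⟨⟨x, hSC x.2⟩, x.2, rfl⟩⟩ : ↥(T : Subgroup (Bar C))))
        ⟨fun x y e => ?_, fun y => ?_⟩
      · exact Subtype.ext (congrArg Subtype.val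
          (hinj (x := ⟨x, hSC x.2⟩) (y := ⟨y, hSC y.2⟩) x.2 y.2 (congrArg Subtype.val e)) :)
      · obtain ⟨x, hx, e⟩ := hTmem.1 y.2
        exact ⟨⟨x, hx⟩, Subtype.ext e⟩
    rw [hST]
    have hd : zpowers z ⊓ ((T : Subgroup (Bar C)) ⊓ L) = ⊥ := by
      rw [eq_bot_iff]
      rintro x ⟨hx1, hx2⟩
      rcases eq_one_or_of_mem_zpowers hzz hx1 with rfl | rfl
      · exact one_mem _
      · exact absurd hx2.2 hzL
    rw [← Nat.card_eq_of_bijective
      (fun p : ↥(zpowers z) × ↥((T : Subgroup (Bar C)) ⊓ L : Subgroup (Bar C)) =>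
        (⟨p.1 * p.2, mul_mem ((zpowers_le.2 hzT) p.1.2) p.2.2.1⟩ : ↥(T : Subgroup (Bar C))))
      ⟨fun p q e => Subgroup.mul_injective_of_disjoint (disjoint_iff.2 hd) (congrArg Subtype.val e),
        fun y => ?_⟩, Nat.card_prod, Nat.card_zpowers, orderOf_eq_prime (by rw [pow_two, hzz]) hz1,
      hP4]
    obtain ⟨g, hg, e | e⟩ := hsplit y y.2
    · exact ⟨(1, ⟨g, hg⟩), Subtype.ext (by simp [e])⟩
    · exact ⟨(⟨z, mem_zpowers z⟩, ⟨g, hg⟩), Subtype.ext (by simp [e])⟩
  -- the rotation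
  obtain ⟨n, -, hna, hnb⟩ := H29.Walter.exists_fuse hLP (a := (⟨a, ha.2⟩ : L)) (b := (⟨b, hb.2⟩ : L))
    (fun e => ha1 (congrArg Subtype.val e)) (Subtype.ext (hPsq a ha))
    (fun e => hb1 (congrArg Subtype.val e)) (Subtype.ext (hPsq b hb)) (Subtype.ext hab.eq)
    (fun e => hba (congrArg Subtype.val e).symm)
  have hna' : (n : Bar C) * a * (n : Bar C)⁻¹ = b := congrArg Subtype.val hna
  have hnb' : (n : Bar C) * b * (n : Bar C)⁻¹ = a * b := congrArg Subtype.val hnb
  have hnz : (n : Bar C) * z * (n : Bar C)⁻¹ = z := by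
    rw [mem_center_iff.1 hzc, mul_inv_cancel_right]
  have hnN : (n : Bar C) ∈ normalizer
      ((((S : Subgroup G).subgroupOf C).map f : Subgroup (Bar C)) : Set (Bar C)) := by
    refine Coprime.mem_normalizer_of_map_conj
      (eq_of_le_of_card_ge ?_ (by rw [Coprime.card_map_conj]))
    rintro _ ⟨y, hy, rfl⟩
    have hy' : y ∈ (T : Subgroup (Bar C)) := hy
    show (n : Bar C) * y * (n : Bar C)⁻¹ ∈ (T : Subgroup (Bar C))
    obtain ⟨g, hg, hcase⟩ := hsplit y hy'
    have hgT : (n : Bar C) * g * (n : Bar C)⁻¹ ∈ (T : Subgroup (Bar C)) := by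
      rcases hcl g hg with rfl | rfl | rfl | rfl
      · simp
      · rw [hna']; exact hb.1
      · rw [hnb']; exact mul_mem ha.1 hb.1
      · rw [show (n : Bar C) * (a * b) * (n : Bar C)⁻¹ =
          ((n : Bar C) * a * (n : Bar C)⁻¹) * ((n : Bar C) * b * (n : Bar C)⁻¹) by group, hna', hnb']
        exact mul_mem hb.1 (mul_mem ha.1 hb.1)
    rcases hcase with rfl | rfl
    · exact hgT
    · rw [show (n : Bar C) * (z * g) * (n : Bar C)⁻¹ =
        ((n : Bar C) * z * (n : Bar C)⁻¹) * ((n : Bar C) * g * (n : Bar C)⁻¹) by group, hnz]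
      exact mul_mem hzT hgT
  have hSCp : IsPGroup 2 ↥((S : Subgroup G).subgroupOf C) := S.isPGroup'.comap_subtype
  rw [hf, ← Components.map_normalizer_of_coprime (P := (S : Subgroup G).subgroupOf C)
    (Cfsg.oddCore ↥C) Cores.coprime_card_pPrimeCore hSCp] at hnN
  obtain ⟨c, hcN, hcn⟩ := hnN
  have hcn' : f c = n := hcn
  have hyN : (c : G) ∈ normalizer ((S : Subgroup G) : Set G) := by
    refine Coprime.mem_normalizer_of_map_conj
      (eq_of_le_of_card_ge ?_ (by rw [Coprime.card_map_conj]))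
    rintro _ ⟨x, hx, rfl⟩
    exact (mem_normalizer_iff.1 hcN ⟨x, hSC hx⟩).1 hx
  have hyt : Commute (c : G) t := mem_centralizer_singleton_iff.1 c.2
  have hmove : ∀ {x y : ↥C}, (x : G) ∈ (S : Subgroup G) → (y : G) ∈ (S : Subgroup G) →
      (n : Bar C) * f x * (n : Bar C)⁻¹ = f y → (c : G) * x * (c : G)⁻¹ = y := by
    intro x y hx hy e
    have h : c * x * c⁻¹ = y := hinj ((mem_normalizer_iff.1 hyN _).1 hx) hy
      (by rw [map_mul, map_mul, map_inv, hcn', e])
    exact congrArg Subtype.val h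
  have hyv : (c : G) * v * (c : G)⁻¹ = w := hmove hvS hwS (by rw [hva, hwb, hna'])
  have hyw : (c : G) * w * (c : G)⁻¹ = (v : G) * w :=
    hmove (y := v * w) hwS (mul_mem hvS hwS) (by rw [map_mul, hva, hwb, hnb'])
  have hne : ∀ {x y : ↥C}, f x ≠ f y → (x : G) ≠ y := fun h e => h (by rw [Subtype.ext e])
  have hv1 : (v : G) ≠ 1 := hne (y := 1) (by rw [hva, map_one]; exact ha1)
  have hw1 : (w : G) ≠ 1 := hne (y := 1) (by rw [hwb, map_one]; exact hb1)
  have hvw : (v : G) ≠ w := hne (by rw [hva, hwb]; exact Ne.symm hba)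
  have htv : t ≠ (v : G) := hne (x := tC) (by rw [hva]; exact fun e => hzL ((show z = f tC from rfl).trans e ▸ ha.2))
  have htw : t ≠ (w : G) := hne (x := tC) (by rw [hwb]; exact fun e => hzL ((show z = f tC from rfl).trans e ▸ hb.2))
  have htvw : t ≠ (v : G) * w := hne (x := tC) (y := v * w)
    (by rw [map_mul, hva, hwb]; exact fun e => hzL ((show z = f tC from rfl).trans e ▸ mul_mem ha.2 hb.2))
  refine ⟨hcard, hsq, trans_of_rotation hcfg htS hvS hwS hsq hcases ht1 hv1 hw1 hvw htv htw htvw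
    hyN hyt hyv hyw, ⟨c, hyN, hyt, fun x hx hcx => ?_⟩, hLP, hCL, hFL⟩
  have hfix : (c : G) * x * (c : G)⁻¹ = x := by rw [hcx.eq, mul_inv_cancel_right]
  have hstep : ∀ q : G, (c : G) * (t * q) * (c : G)⁻¹ = t * q → (c : G) * q * (c : G)⁻¹ = q := by
    intro q e
    rw [show (c : G) * (t * q) * (c : G)⁻¹ =
      ((c : G) * t * (c : G)⁻¹) * ((c : G) * q * (c : G)⁻¹) by group, hyt.eq,
      mul_inv_cancel_right] at e
    exact mul_left_cancel e
  have hv' : (c : G) * v * (c : G)⁻¹ ≠ v := fun e => hvw (hyv ▸ e).symm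
  have hw' : (c : G) * w * (c : G)⁻¹ ≠ w := fun e => hv1 (mul_eq_right.1 (hyw ▸ e))
  have hvw' : (c : G) * ((v : G) * w) * (c : G)⁻¹ ≠ (v : G) * w := by
    intro e
    rw [show (c : G) * ((v : G) * w) * (c : G)⁻¹ =
      ((c : G) * v * (c : G)⁻¹) * ((c : G) * w * (c : G)⁻¹) by group, hyv, hyw] at e
    exact hw1 (mul_eq_right.1 e)
  rcases hcases x hx with rfl | rfl | rfl | rfl | rfl | rfl | rfl | rfl
  · exact one_mem _
  · exact mem_zpowers _
  · exact absurd hfix hv'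
  · exact absurd hfix hw'
  · exact absurd hfix hvw'
  · exact absurd (hstep _ hfix) hv'
  · exact absurd (hstep _ hfix) hw'
  · exact absurd (hstep _ hfix) hvw'

/-- Transport of the structure at `t` to a conjugate. -/
theorem bar_conj {t : G} {htC : t ∈ centralizer ({t} : Set G)}
    {L : Subgroup (Bar (centralizer ({t} : Set G)))} (hL : Cfsg.IsComponent L) (hLP : IsOddPSL ↥L)
    (hCL : centralizer (L : Set (Bar (centralizer ({t} : Set G)))) =
      zpowers (toBar (centralizer ({t} : Set G)) ⟨t, htC⟩))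
    (hF : Cfsg.generalizedFittingSubgroup (Bar (centralizer ({t} : Set G))) =
      zpowers (toBar (centralizer ({t} : Set G)) ⟨t, htC⟩) ⊔ L)
    (g : G) (hgC : g * t * g⁻¹ ∈ centralizer ({g * t * g⁻¹} : Set G)) :
    ∃ L' : Subgroup (Bar (centralizer ({g * t * g⁻¹} : Set G))),
      Cfsg.IsComponent L' ∧ IsOddPSL ↥L' ∧
      centralizer (L' : Set (Bar (centralizer ({g * t * g⁻¹} : Set G)))) =
        zpowers (toBar (centralizer ({g * t * g⁻¹} : Set G)) ⟨g * t * g⁻¹, hgC⟩) ∧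
      Cfsg.generalizedFittingSubgroup (Bar (centralizer ({g * t * g⁻¹} : Set G))) =
        zpowers (toBar (centralizer ({g * t * g⁻¹} : Set G)) ⟨g * t * g⁻¹, hgC⟩) ⊔ L' := by
  let e0 : ↥(centralizer ({t} : Set G)) ≃* ↥(centralizer ({g * t * g⁻¹} : Set G)) :=
    ((MulAut.conj g).subgroupMap _).trans (MulEquiv.subgroupCongr (map_conj_centralizer g t))
  let e : Bar (centralizer ({t} : Set G)) ≃* Bar (centralizer ({g * t * g⁻¹} : Set G)) :=
    QuotientGroup.congr _ _ e0 (Cores.pPrimeCore_map_mulEquiv e0)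
  have hez : e (toBar (centralizer ({t} : Set G)) ⟨t, htC⟩) =
      toBar (centralizer ({g * t * g⁻¹} : Set G)) ⟨g * t * g⁻¹, hgC⟩ := by
    show e (QuotientGroup.mk' _ _) = _
    rfl
  refine ⟨L.map e.toMonoidHom, Components.component_map_equiv e hL, ?_, ?_, ?_⟩
  · obtain ⟨F, i1, i2, h5, h8, ⟨i3⟩⟩ := hLP
    exact ⟨F, i1, i2, h5, h8,
      ⟨(L.equivMapOfInjective e.toMonoidHom e.injective).symm.trans i3⟩⟩
  · rw [← hez, ← MulEquiv.coe_toMonoidHom, ← MonoidHom.map_zpowers, ← hCL]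
    ext x
    obtain ⟨x, rfl⟩ := e.surjective x
    rw [show e x = e.toMonoidHom x from rfl, Subgroup.mem_map_iff_mem (f := e.toMonoidHom) e.injective,
      mem_centralizer_iff, mem_centralizer_iff]
    constructor
    · intro h y hy
      exact e.injective (by simpa using h (e y) ⟨y, hy, rfl⟩)
    · rintro h _ ⟨y, hy, rfl⟩
      rw [← map_mul, h y hy, map_mul]
  · rw [← Components.map_genFitting_equiv e, hF, Subgroup.map_sup, MonoidHom.map_zpowers,
      MulEquiv.coe_toMonoidHom, hez]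

/-- **Sec. 0.** The configuration exists. -/
theorem exists_three (hcfg : H10.Walter.Cfg G) (hno : H10.Walter.NoSE G)
    (hcomp : H10.Walter.HasComp G) (h3 : Cfsg.PRankLE 2 3 G) :
    ∃ S : Sylow 2 G, Three S := by
  obtain ⟨t, ht, L, hL⟩ := hcomp
  obtain ⟨S, hS⟩ := (IsPGroup.of_card (n := 1) (by rw [Nat.card_zpowers, ht, pow_one]) :
    IsPGroup 2 ↥(zpowers t)).exists_le_sylow
  have htS : t ∈ (S : Subgroup G) := hS (mem_zpowers t)
  have htC : t ∈ centralizer ({t} : Set G) := mem_centralizer_singleton_iff.2 rfl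
  obtain ⟨h8, hsq, htr, ⟨y, hyN, hyt, hyfix⟩, hLP, hCL, hF⟩ :=
    exists_data hcfg h3 ht htS htC hL
  refine ⟨S, ⟨hcfg, hno, h8, hsq, fun a ha b hb ha1 hb1 => ?_, fun a ha ha1 => ?_,
    fun a hoa ha => ?_⟩⟩
  · obtain ⟨m, hm, rfl⟩ := htr a ha ha1
    obtain ⟨n, hn, rfl⟩ := htr b hb hb1
    exact ⟨n * m⁻¹, mul_mem hn (inv_mem hm), by group⟩
  · obtain ⟨m, hm, rfl⟩ := htr a ha ha1
    refine ⟨m * y * m⁻¹, mul_mem (mul_mem hm hyN) (inv_mem hm),
      by simpa using hyt.map (MulAut.conj m).toMonoidHom, fun x hx hcx => ?_⟩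
    have hc : Commute y (m⁻¹ * x * m) := by
      have h := hcx.map (MulAut.conj m⁻¹).toMonoidHom
      simpa [mul_assoc] using h
    obtain ⟨i, hi⟩ := mem_zpowers_iff.1 (hyfix _ ((mem_normalizer_iff''.1 hm x).1 hx) hc)
    refine mem_zpowers_iff.2 ⟨i, ?_⟩
    rw [conj_zpow, hi]
    group
  · obtain ⟨g, hg⟩ := H39.exists_conj_le_sylow (IsPGroup.of_card (n := 1)
      (by rw [Nat.card_zpowers, hoa, pow_one]) : IsPGroup 2 ↥(zpowers a)) S
    have hgS : g * a * g⁻¹ ∈ (S : Subgroup G) := hg a (mem_zpowers a)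
    obtain ⟨m, -, hm⟩ := htr _ hgS fun e => by
      rw [conj_eq_one_iff] at e
      rw [e, orderOf_one] at hoa
      omega
    obtain rfl : a = g⁻¹ * m * t * (g⁻¹ * m)⁻¹ := by
      calc a = g⁻¹ * (g * a * g⁻¹) * g := by group
        _ = g⁻¹ * m * t * (g⁻¹ * m)⁻¹ := by rw [← hm]; group
    exact bar_conj hL hLP hCL hF _ ha

end Cfsg.Agent.H77.Walter
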